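import Cfsg.Agent.Cit.Nil.RG.Tri
import Cfsg.Agent.FastGrp
import Cfsg.Agent.Prune
set_option linter.all false

section
prune_inst 0x7f00000000000000000000000000000000000000000000000000000000000000000000000000000000000000000000000000000000000000000000000000000000000000000000000000000000000000003fffffffffffffffffffffffffffbeffbdffffffff

-- part: Cit/Nil/RG/Free
section
set_option linter.all false
open scoped Cfsg.Agent.FastGrp

/-!
# (6b), general `r`: free elements (helper488)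

`x` an involution commuting with `z`, free on the members over `z` (`Fr Om x z`).

* `surj` : `v ∈ R_z`, `x v x⁻¹ ∈ {v, zv}`: `x` inverts `v`, and `v` or `zv` is `[x, r]`, `r ∈ R_z`.
-/

set_option autoImplicit false
set_option linter.style.haveILetI false
set_option linter.unusedSectionVars false

namespace Cfsg.Agent.Cit.Nil.RG

open Subgroup Cfsg Cit QuaternionGroup
open Cfsg.Agent.Cit.Nil.ROne

variable {G : Type*} [Group G]

/-- the conclusion of `surj` -/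
def Gd (x z : G) (𝒦 : Set (Subgroup G)) (v : G) : Prop :=
  x * v * x⁻¹ = v⁻¹ ∧ ∃ r ∈ SS 𝒦, x * r * x⁻¹ * r⁻¹ = v ∨ x * r * x⁻¹ * r⁻¹ = z * v

namespace WR

variable {Om : Set (Subgroup G)} {𝒦 𝒦' : Set (Subgroup G)} {K L M : Subgroup G} {z x y g g' u v w a a' b k r s t : G}

/-! ### Commutators `[x, r] = x r x⁻¹ r⁻¹` -/

theorem com_mul (hc : r * (x * s * x⁻¹ * s⁻¹) = x * s * x⁻¹ * s⁻¹ * r) :
    x * (r * s) * x⁻¹ * (r * s)⁻¹ = (x * r * x⁻¹ * r⁻¹) * (x * s * x⁻¹ * s⁻¹) := by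
  calc x * (r * s) * x⁻¹ * (r * s)⁻¹ = x * r * x⁻¹ * (x * s * x⁻¹ * s⁻¹) * r⁻¹ := by group
    _ = x * r * x⁻¹ * r⁻¹ * (r * (x * s * x⁻¹ * s⁻¹)) * r⁻¹ := by group
    _ = x * r * x⁻¹ * r⁻¹ * (x * s * x⁻¹ * s⁻¹ * r) * r⁻¹ := by rw [hc]
    _ = _ := by group

/-- `r x r⁻¹ = x [x, r]` for an involution `x` -/
theorem conj_eq (hx : x * x = 1) : r * x * r⁻¹ = x * (x * r * x⁻¹ * r⁻¹) := by
  have h1 : x⁻¹ = x := inv_eq_of_mul_eq_one_right hx
  calc r * x * r⁻¹ = 1 * r * x * r⁻¹ := by group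
    _ = (x * x) * r * x * r⁻¹ := by rw [hx]
    _ = x * (x * r * x * r⁻¹) := by group
    _ = _ := by rw [h1]

section

variable (h : WR Om)

include h

/-- a fixed member -/
theorem fix_one (hK : K ∈ Ov Om z) (hx : x * x = 1) (hc : cj x K = K) (hn : ¬ Inn x K) (hk : k ∈ K)
    (hkk : x * k * x⁻¹ = k ∨ x * k * x⁻¹ = z * k) :
    x * k * x⁻¹ = k⁻¹ ∧ ∃ r ∈ K, x * r * x⁻¹ * r⁻¹ = k ∨ x * r * x⁻¹ * r⁻¹ = z * k := by
  rcases h.inn_or_tr hK.1 hc hx with h1 | ⟨a, ha⟩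
  · exact absurd h1 hn
  have hz := Ov_zz hK
  have hzz := h.zz_sq hz
  have hxz : x * z * x⁻¹ = z := by
    have h1 := h.zcj hK.1 x
    rw [hc, hK.2] at h1
    exact h1.symm
  by_cases k1 : k = 1
  · subst k1
    exact ⟨by group, 1, one_mem K, Or.inl (by group)⟩
  by_cases k2 : k = z
  · subst k2
    refine ⟨by rw [hxz, h.zz_inv hz], 1, one_mem K, Or.inr ?_⟩
    rw [hzz]; group
  have hkq : k * k = zz K := h.sq_eq hK.1 hk k1 (by rw [hK.2]; exact k2)
  have hki : k⁻¹ = z * k := by rw [h.inv_eq hK.1 hk hkq, hK.2]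
  have hka : k = a ∨ k = a⁻¹ := by
    by_contra hcon
    push Not at hcon
    have h2 := ha.ne k hk hkq hcon.1 hcon.2
    rcases hkk with h3 | h3
    · exact h2.1 h3
    · exact h2.2 (by rw [hki]; exact h3)
  have hai : a⁻¹ = z * a := by rw [h.inv_eq hK.1 ha.mem ha.sq, hK.2]
  have hxi : x * a⁻¹ * x⁻¹ = a := by
    have h5 : x * a⁻¹ * x⁻¹ = (x * a * x⁻¹)⁻¹ := by group
    rw [h5, ha.inv, inv_inv]
  obtain ⟨b, hb, hbb, hb1, hb2⟩ := h.exists_anti hK.1 ha.mem ha.sq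
  have h6 := ha.com b hb hbb hb1 hb2
  rcases hka with rfl | rfl
  · refine ⟨ha.inv, b, hb, ?_⟩
    rcases h6 with h6 | h6
    · exact Or.inl h6
    · exact Or.inr (by rw [h6, hai])
  · refine ⟨by rw [inv_inv]; exact hxi, b, hb, ?_⟩
    rcases h6 with h6 | h6
    · right; rw [h6, hai, ← mul_assoc, hzz, one_mul]
    · exact Or.inl h6

/-- members of the orbit commute -/
theorem swap_comm (hK : K ∈ Ov Om z) (hxz : x * z = z * x) (hc : cj x K ≠ K) (hk : k ∈ K) (hl : a ∈ K) :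
    (x * k * x⁻¹) * a = a * (x * k * x⁻¹) :=
  h.Ov_comm (h.Ov_cj' hK hxz) hK hc (conj_mem_cj hk) hl

theorem inv_or (hK : K ∈ Ov Om z) (hk : k ∈ K) : k⁻¹ = k ∨ k⁻¹ = z * k := by
  rcases h.sq hK.1 hk with h1 | h1
  · left; exact inv_eq_of_mul_eq_one_right h1
  · right; rw [h.inv_eq hK.1 hk h1, hK.2]

/-- a moved member -/
theorem swap_one (hK : K ∈ Ov Om z) (hx : x * x = 1) (hxz : x * z = z * x) (hc : cj x K ≠ K) (hk : k ∈ K) :
    x * (k * (x * k * x⁻¹)) * x⁻¹ = (k * (x * k * x⁻¹))⁻¹ ∧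
      (x * k * x⁻¹ * k⁻¹ = k * (x * k * x⁻¹) ∨ x * k * x⁻¹ * k⁻¹ = z * (k * (x * k * x⁻¹))) := by
  have hz := Ov_zz hK
  have hzz := h.zz_sq hz
  have hcom := h.swap_comm hK hxz hc hk hk
  have hxi : x⁻¹ = x := inv_eq_of_mul_eq_one_right hx
  have h1 : x * (x * k * x⁻¹) * x⁻¹ = k := by
    calc x * (x * k * x⁻¹) * x⁻¹ = (x * x) * k * (x * x)⁻¹ := by group
      _ = k := by rw [hx]; group
  have h2 : x * (k * (x * k * x⁻¹)) * x⁻¹ = k * (x * k * x⁻¹) := by
    calc x * (k * (x * k * x⁻¹)) * x⁻¹ = (x * k * x⁻¹) * (x * (x * k * x⁻¹) * x⁻¹) := by group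
      _ = (x * k * x⁻¹) * k := by rw [h1]
      _ = _ := hcom
  have h3 : (k * (x * k * x⁻¹))⁻¹ = k * (x * k * x⁻¹) := by
    have h4 : (k * (x * k * x⁻¹))⁻¹ = (x * k⁻¹ * x⁻¹) * k⁻¹ := by group
    rw [h4]
    rcases h.inv_or hK hk with h5 | h5
    · rw [h5]; exact hcom
    · rw [h5]
      calc x * (z * k) * x⁻¹ * (z * k) = (x * z) * k * x⁻¹ * (z * k) := by group
        _ = (z * x) * k * x⁻¹ * (z * k) := by rw [hxz]
        _ = z * ((x * k * x⁻¹) * z) * k := by group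
        _ = z * (z * (x * k * x⁻¹)) * k := by
          rw [h.Ov_cen (h.Ov_cj' hK hxz) (conj_mem_cj (g := x) hk)]
        _ = (z * z) * ((x * k * x⁻¹) * k) := by group
        _ = k * (x * k * x⁻¹) := by rw [hzz, one_mul, hcom]
  refine ⟨by rw [h2, h3], ?_⟩
  rcases h.inv_or hK hk with h5 | h5
  · left; rw [h5]; exact hcom
  · right
    rw [h5]
    calc x * k * x⁻¹ * (z * k) = ((x * k * x⁻¹) * z) * k := by group
      _ = (z * (x * k * x⁻¹)) * k := by
        rw [h.Ov_cen (h.Ov_cj' hK hxz) (conj_mem_cj (g := x) hk)]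
      _ = z * ((x * k * x⁻¹) * k) := by group
      _ = _ := by rw [hcom]

/-- products -/
theorem Gd_mul (hzz : z * z = 1) (hrw : ∀ r ∈ SS 𝒦, ∀ w ∈ SS 𝒦', r * w = w * r)
    (hzr : ∀ r ∈ SS 𝒦, z * r = r * z)
    (hu : u ∈ SS 𝒦) (hw : w ∈ SS 𝒦') (hxw : ∀ s ∈ SS 𝒦', x * s * x⁻¹ ∈ SS 𝒦')
    (g1 : Gd x z 𝒦 u) (g2 : Gd x z 𝒦' w) : Gd x z (𝒦 ∪ 𝒦') (u * w) := by
  obtain ⟨h1, r, hr, h2⟩ := g1
  obtain ⟨h3, s, hs, h4⟩ := g2
  refine ⟨?_, r * s, mul_mem (SS_mono Set.subset_union_left hr) (SS_mono Set.subset_union_right hs), ?_⟩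
  · calc x * (u * w) * x⁻¹ = (x * u * x⁻¹) * (x * w * x⁻¹) := by group
      _ = u⁻¹ * w⁻¹ := by rw [h1, h3]
      _ = (w * u)⁻¹ := by group
      _ = (u * w)⁻¹ := by rw [hrw u hu w hw]
  · rw [com_mul (hrw r hr _ (mul_mem (hxw s hs) (inv_mem hs)))]
    have h5 : u * (z * w) = z * (u * w) := by
      rw [← mul_assoc, ← hzr u hu, mul_assoc]
    rcases h2 with h2 | h2 <;> rcases h4 with h4 | h4 <;> rw [h2, h4]
    · exact Or.inl rfl
    · right; exact h5
    · right; rw [mul_assoc]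
    · left
      calc z * u * (z * w) = z * (u * (z * w)) := by group
        _ = z * (z * (u * w)) := by rw [h5]
        _ = (z * z) * (u * w) := by group
        _ = u * w := by rw [hzz, one_mul]

/-- **SURJ** for an invariant set of members -/
theorem surj_aux [Finite G] (hz : z ∈ ZZ Om) (hx : x * x = 1) (hxz : x * z = z * x) (hf : Fr Om x z) :
    ∀ (n : ℕ) (𝒦 : Set (Subgroup G)), 𝒦.ncard = n → 𝒦 ⊆ Ov Om z → (∀ K ∈ 𝒦, cj x K ∈ 𝒦) → ∀ v ∈ SS 𝒦,
      (x * v * x⁻¹ = v ∨ x * v * x⁻¹ = z * v) → Gd x z 𝒦 v := by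
  have hzz := h.zz_sq hz
  have hxx : ∀ K : Subgroup G, cj x (cj x K) = K := fun K => by rw [← cj_mul, hx, cj_one]
  intro n
  induction n using Nat.strong_induction_on with
  | _ n ih =>
    intro 𝒦 hn h𝒦 hinv v hv hvv
    by_cases he : 𝒦 = ∅
    · subst he
      rw [SS_empty, mem_bot] at hv
      subst hv
      exact ⟨by group, 1, one_mem _, Or.inl (by group)⟩
    obtain ⟨K, hK⟩ := Set.nonempty_iff_ne_empty.2 he
    have hKz := h𝒦 hK
    obtain ⟨k, hk, w, hw, rfl, hcw⟩ := h.SS_split h𝒦 hK hv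
    have hcK : ∀ l ∈ K, z * l = l * z := fun l hl => h.Ov_cen hKz hl
    by_cases hc : cj x K = K
    · -- `x` fixes `K`
      have hinv' : ∀ L ∈ 𝒦 \ {K}, cj x L ∈ 𝒦 \ {K} := by
        intro L hL
        refine ⟨hinv L hL.1, fun h1 => hL.2 ?_⟩
        rw [Set.mem_singleton_iff] at h1 ⊢
        rw [← hc] at h1
        exact cj_inj.1 h1
      have hcard : (𝒦 \ {K}).ncard < n := by
        rw [← hn]; exact Set.ncard_sdiff_singleton_lt_of_mem hK (Set.toFinite 𝒦)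
      have hxw : x * w * x⁻¹ ∈ SS (𝒦 \ {K}) := SS_cj_le hinv' hw
      have hcS : ∀ w ∈ SS (𝒦 \ {K}), ∀ l ∈ K, w * l = l * w := by
        intro w hw l hl
        refine (SS_comm (x := l) (fun L hL k hk => ?_) hw).symm
        exact h.Ov_comm hKz (h𝒦 hL.1) (fun h1 => hL.2 h1.symm) hl hk
      have hxk : x * k * x⁻¹ ∈ K := conj_mem_of_cj hc hk
      -- `k⁻¹ · x k x⁻¹` is central in `K`
      have h1 : k⁻¹ * (x * k * x⁻¹) = w * (x * w * x⁻¹)⁻¹ ∨ k⁻¹ * (x * k * x⁻¹) = z * (w * (x * w * x⁻¹)⁻¹) := by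
        have h2 : x * (k * w) * x⁻¹ = (x * k * x⁻¹) * (x * w * x⁻¹) := by group
        rw [h2] at hvv
        rcases hvv with h3 | h3
        · left
          calc k⁻¹ * (x * k * x⁻¹) = k⁻¹ * ((x * k * x⁻¹) * (x * w * x⁻¹)) * (x * w * x⁻¹)⁻¹ := by group
            _ = k⁻¹ * (k * w) * (x * w * x⁻¹)⁻¹ := by rw [h3]
            _ = _ := by group
        · right
          calc k⁻¹ * (x * k * x⁻¹) = k⁻¹ * ((x * k * x⁻¹) * (x * w * x⁻¹)) * (x * w * x⁻¹)⁻¹ := by group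
            _ = k⁻¹ * (z * (k * w)) * (x * w * x⁻¹)⁻¹ := by rw [h3]
            _ = k⁻¹ * (z * k) * w * (x * w * x⁻¹)⁻¹ := by group
            _ = k⁻¹ * (k * z) * w * (x * w * x⁻¹)⁻¹ := by rw [hcK k hk]
            _ = _ := by group
      have hws : w * (x * w * x⁻¹)⁻¹ ∈ SS (𝒦 \ {K}) := mul_mem hw (inv_mem hxw)
      have h2 : k⁻¹ * (x * k * x⁻¹) = 1 ∨ k⁻¹ * (x * k * x⁻¹) = z := by
        refine h.Ov_central hKz (mul_mem (inv_mem hk) hxk) fun l hl => ?_
        have h3 := hcS _ hws l hl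
        rcases h1 with h1 | h1
        · rw [h1, h3]
        · rw [h1, mul_assoc, h3, ← mul_assoc, hcK l hl, mul_assoc, ← mul_assoc]
      have hk2 : x * k * x⁻¹ = k ∨ x * k * x⁻¹ = z * k := by
        rcases h2 with h2 | h2
        · left; rw [inv_mul_eq_one] at h2; exact h2.symm
        · right; rw [inv_mul_eq_iff_eq_mul] at h2; rw [h2, hcK k hk]
      have hw2 : x * w * x⁻¹ = w ∨ x * w * x⁻¹ = z * w := by
        have h4 : w * (x * w * x⁻¹)⁻¹ = 1 ∨ w * (x * w * x⁻¹)⁻¹ = z := by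
          rcases h1 with h1 | h1
          · rwa [h1] at h2
          · rw [h1] at h2
            rcases h2 with h2 | h2
            · right
              rw [← h.zz_inv hz]
              exact eq_inv_of_mul_eq_one_right h2
            · left
              exact mul_eq_left.1 h2
        rcases h4 with h4 | h4
        · left; rw [mul_inv_eq_one] at h4; exact h4.symm
        · right
          rw [mul_inv_eq_iff_eq_mul] at h4
          have h6 : z * (z * (x * w * x⁻¹)) = x * w * x⁻¹ := by rw [← mul_assoc, hzz, one_mul]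
          calc x * w * x⁻¹ = z * (z * (x * w * x⁻¹)) := h6.symm
            _ = z * w := by rw [← h4]
      obtain ⟨h5, r0, hr0, h6⟩ := h.fix_one hKz hx hc (hf K hKz hc) hk hk2
      have g1 : Gd x z {K} k := ⟨h5, r0, mem_SS_of rfl hr0, h6⟩
      have g2 := ih _ hcard (𝒦 \ {K}) rfl (Set.sdiff_subset.trans h𝒦) hinv' w hw hw2
      have hS1 : SS {K} ≤ K := SS_le fun L hL => by rw [Set.mem_singleton_iff.1 hL]
      have g3 := h.Gd_mul hzz (fun r hr w hw => (hcS w hw r (hS1 hr)).symm) (fun r hr => hcK r (hS1 hr))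
        (mem_SS_of rfl hk) hw (fun s hs => SS_cj_le hinv' hs) g1 g2
      rwa [Set.singleton_union, Set.insert_sdiff_singleton, Set.insert_eq_of_mem hK] at g3
    · -- `x` moves `K`
      obtain ⟨K', hK'⟩ : ∃ K', K' = cj x K := ⟨_, rfl⟩
      have hK'm : K' ∈ 𝒦 := by rw [hK']; exact hinv K hK
      have hK'n : K' ∈ 𝒦 \ {K} := ⟨hK'm, by rw [hK']; exact hc⟩
      have hK'z := h𝒦 hK'm
      have hxK' : cj x K' = K := by rw [hK', hxx]
      obtain ⟨k', hk', w', hw', rfl, hcw'⟩ := h.SS_split (𝒦 := 𝒦 \ {K}) (Set.sdiff_subset.trans h𝒦) hK'n hw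
      obtain ⟨𝒥, h𝒥⟩ : ∃ 𝒥, 𝒥 = (𝒦 \ {K}) \ {K'} := ⟨_, rfl⟩
      rw [← h𝒥] at hw'
      have h𝒥s : 𝒥 ⊆ 𝒦 := by rw [h𝒥]; exact Set.sdiff_subset.trans Set.sdiff_subset
      have hinv' : ∀ L ∈ 𝒥, cj x L ∈ 𝒥 := by
        intro L hL
        rw [h𝒥] at hL ⊢
        refine ⟨⟨hinv L hL.1.1, fun h1 => hL.2 ?_⟩, fun h1 => hL.1.2 ?_⟩
        · rw [Set.mem_singleton_iff] at h1 ⊢
          rw [← hxK'] at h1
          exact cj_inj.1 h1
        · rw [Set.mem_singleton_iff] at h1 ⊢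
          rw [hK'] at h1
          exact cj_inj.1 h1
      have hcard : 𝒥.ncard < n := by
        rw [← hn]
        refine Set.ncard_lt_ncard ⟨h𝒥s, fun h1 => ?_⟩ (Set.toFinite 𝒦)
        have h2 := h1 hK
        rw [h𝒥] at h2
        exact h2.1.2 rfl
      have hxw : x * w' * x⁻¹ ∈ SS 𝒥 := SS_cj_le hinv' hw'
      have hcS : ∀ w ∈ SS 𝒥, ∀ l ∈ K, w * l = l * w := by
        intro w hw l hl
        refine (SS_comm (x := l) (fun L hL k hk => ?_) hw).symm
        refine h.Ov_comm hKz (h𝒦 (h𝒥s hL)) (fun h1 => ?_) hl hk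
        rw [h𝒥] at hL
        exact hL.1.2 h1.symm
      have hcS' : ∀ w ∈ SS 𝒥, ∀ l ∈ K', w * l = l * w := by
        intro w hw l hl
        refine (SS_comm (x := l) (fun L hL k hk => ?_) hw).symm
        refine h.Ov_comm hK'z (h𝒦 (h𝒥s hL)) (fun h1 => ?_) hl hk
        rw [h𝒥] at hL
        exact hL.2 h1.symm
      have hKK' : ∀ l ∈ K, ∀ l' ∈ K', l * l' = l' * l := fun l hl l' hl' =>
        h.Ov_comm hKz hK'z (fun h1 => hc (by rw [← hK', ← h1])) hl hl'
      have hxk : x * k * x⁻¹ ∈ K' := by rw [hK']; exact conj_mem_cj hk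
      have hxk' : x * k' * x⁻¹ ∈ K := by rw [← hxK']; exact conj_mem_cj hk'
      have hcz : ∀ w ∈ SS 𝒥, z * w = w * z := fun w hw => h.SS_cen (𝒦 := 𝒥) (h𝒥s.trans h𝒦) hw
      -- `k⁻¹ · x k' x⁻¹` is central in `K`
      have h2 : k⁻¹ * (x * k' * x⁻¹) = 1 ∨ k⁻¹ * (x * k' * x⁻¹) = z := by
        refine h.Ov_central hKz (mul_mem (inv_mem hk) hxk') fun l hl => ?_
        have h3 : ∃ e, (e = 1 ∨ e = z) ∧ k⁻¹ * (x * k' * x⁻¹) = e * k' * (x * k * x⁻¹)⁻¹ * (w' * (x * w' * x⁻¹)⁻¹) := by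
          have h4 : x * (k * (k' * w')) * x⁻¹ = (x * k' * x⁻¹) * (x * k * x⁻¹) * (x * w' * x⁻¹) := by
            calc x * (k * (k' * w')) * x⁻¹ = x * (k * k') * w' * x⁻¹ := by group
              _ = x * (k' * k) * w' * x⁻¹ := by rw [hKK' k hk k' hk']
              _ = _ := by group
          have h5 : ∃ e, (e = 1 ∨ e = z) ∧ (x * k' * x⁻¹) * (x * k * x⁻¹) * (x * w' * x⁻¹) = e * (k * (k' * w')) := by
            rw [h4] at hvv
            rcases hvv with h6 | h6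
            · exact ⟨1, Or.inl rfl, by rw [h6, one_mul]⟩
            · exact ⟨z, Or.inr rfl, h6⟩
          obtain ⟨e, he1, h6⟩ := h5
          refine ⟨e, he1, ?_⟩
          have hek : e * k = k * e := by
            rcases he1 with rfl | rfl
            · rw [one_mul, mul_one]
            · exact hcK k hk
          have h7 : w' * (x * w' * x⁻¹)⁻¹ ∈ SS 𝒥 := mul_mem hw' (inv_mem hxw)
          calc k⁻¹ * (x * k' * x⁻¹)
              = k⁻¹ * ((x * k' * x⁻¹) * (x * k * x⁻¹) * (x * w' * x⁻¹)) * (x * w' * x⁻¹)⁻¹ * (x * k * x⁻¹)⁻¹ := by group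
            _ = k⁻¹ * (e * (k * (k' * w'))) * (x * w' * x⁻¹)⁻¹ * (x * k * x⁻¹)⁻¹ := by rw [h6]
            _ = k⁻¹ * (e * k) * k' * ((w' * (x * w' * x⁻¹)⁻¹) * (x * k * x⁻¹)⁻¹) := by group
            _ = k⁻¹ * (k * e) * k' * ((x * k * x⁻¹)⁻¹ * (w' * (x * w' * x⁻¹)⁻¹)) := by
              rw [hek, hcS' _ h7 _ (inv_mem hxk)]
            _ = _ := by group
        obtain ⟨e, he1, h4⟩ := h3
        have hel : e * l = l * e := by
          rcases he1 with rfl | rfl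
          · rw [one_mul, mul_one]
          · exact hcK l hl
        have h7 : w' * (x * w' * x⁻¹)⁻¹ ∈ SS 𝒥 := mul_mem hw' (inv_mem hxw)
        have h8 := hcS _ h7 l hl
        have h9 := hKK' l hl (k' * (x * k * x⁻¹)⁻¹) (mul_mem hk' (inv_mem hxk))
        calc k⁻¹ * (x * k' * x⁻¹) * l = e * (k' * (x * k * x⁻¹)⁻¹) * ((w' * (x * w' * x⁻¹)⁻¹) * l) := by rw [h4]; group
          _ = e * (k' * (x * k * x⁻¹)⁻¹) * (l * (w' * (x * w' * x⁻¹)⁻¹)) := by rw [h8]
          _ = e * ((k' * (x * k * x⁻¹)⁻¹) * l) * (w' * (x * w' * x⁻¹)⁻¹) := by group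
          _ = e * (l * (k' * (x * k * x⁻¹)⁻¹)) * (w' * (x * w' * x⁻¹)⁻¹) := by rw [h9]
          _ = (e * l) * (k' * (x * k * x⁻¹)⁻¹) * (w' * (x * w' * x⁻¹)⁻¹) := by group
          _ = (l * e) * (k' * (x * k * x⁻¹)⁻¹) * (w' * (x * w' * x⁻¹)⁻¹) := by rw [hel]
          _ = l * (k⁻¹ * (x * k' * x⁻¹)) := by rw [h4]; group
      -- `k' = e (x k x⁻¹)`
      have hk3 : ∃ e, (e = 1 ∨ e = z) ∧ k' = e * (x * k * x⁻¹) := by
        have h3 : ∃ e, (e = 1 ∨ e = z) ∧ x * k' * x⁻¹ = e * k := by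
          rcases h2 with h2 | h2
          · rw [inv_mul_eq_one] at h2; exact ⟨1, Or.inl rfl, by rw [one_mul]; exact h2.symm⟩
          · rw [inv_mul_eq_iff_eq_mul] at h2; exact ⟨z, Or.inr rfl, by rw [h2, hcK k hk]⟩
        obtain ⟨e, he1, h4⟩ := h3
        refine ⟨e, he1, ?_⟩
        have hex : x * e = e * x := by
          rcases he1 with rfl | rfl
          · rw [one_mul, mul_one]
          · exact hxz
        calc k' = (x * x) * k' * (x * x)⁻¹ := by rw [hx]; group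
          _ = x * (x * k' * x⁻¹) * x⁻¹ := by group
          _ = x * (e * k) * x⁻¹ := by rw [h4]
          _ = (x * e) * k * x⁻¹ := by group
          _ = (e * x) * k * x⁻¹ := by rw [hex]
          _ = _ := by group
      obtain ⟨e, he1, rfl⟩ := hk3
      have hee : e * e = 1 := by
        rcases he1 with rfl | rfl
        · rw [one_mul]
        · exact hzz
      have hex : x * e = e * x := by
        rcases he1 with rfl | rfl
        · rw [one_mul, mul_one]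
        · exact hxz
      have hec : ∀ l, z * l = l * z → e * l = l * e := by
        intro l hl
        rcases he1 with rfl | rfl
        · rw [one_mul, mul_one]
        · exact hl
      obtain ⟨h5, h6⟩ := h.swap_one hKz hx hxz hc hk
      have hkx : z * (x * k * x⁻¹) = x * k * x⁻¹ * z := h.Ov_cen hK'z hxk
      -- `k e (x k x⁻¹) = e v0`
      have h7 : k * (e * (x * k * x⁻¹) * w') = (e * (k * (x * k * x⁻¹))) * w' := by
        calc k * (e * (x * k * x⁻¹) * w') = (k * e) * (x * k * x⁻¹) * w' := by group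
          _ = (e * k) * (x * k * x⁻¹) * w' := by rw [hec k (hcK k hk)]
          _ = _ := by group
      have hv0z : z * (k * (x * k * x⁻¹)) = (k * (x * k * x⁻¹)) * z := by
        calc z * (k * (x * k * x⁻¹)) = (z * k) * (x * k * x⁻¹) := by group
          _ = (k * z) * (x * k * x⁻¹) := by rw [hcK k hk]
          _ = k * (z * (x * k * x⁻¹)) := by group
          _ = k * (x * k * x⁻¹ * z) := by rw [hkx]
          _ = _ := by group
      have g1 : Gd x z {K, K'} (e * (k * (x * k * x⁻¹))) := by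
        refine ⟨?_, k, mem_SS_of (Set.mem_insert _ _) hk, ?_⟩
        · have hei : e⁻¹ = e := inv_eq_of_mul_eq_one_right hee
          calc x * (e * (k * (x * k * x⁻¹))) * x⁻¹ = (x * e) * (k * (x * k * x⁻¹)) * x⁻¹ := by group
            _ = (e * x) * (k * (x * k * x⁻¹)) * x⁻¹ := by rw [hex]
            _ = e * (x * (k * (x * k * x⁻¹)) * x⁻¹) := by group
            _ = e * (k * (x * k * x⁻¹))⁻¹ := by rw [h5]
            _ = (k * (x * k * x⁻¹) * e⁻¹)⁻¹ := by group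
            _ = (e * (k * (x * k * x⁻¹)))⁻¹ := by rw [hei, hec _ hv0z]
        · have h8 : ∀ p q : G, (q = p ∨ q = z * p) → (q = e * p ∨ q = z * (e * p)) := by
            intro p q hpq
            rcases he1 with h9 | h9 <;> rw [h9] <;> rcases hpq with h10 | h10 <;> rw [h10]
            · left; rw [one_mul]
            · right; rw [one_mul]
            · right; rw [← mul_assoc, hzz, one_mul]
            · left; rfl
          exact h8 _ _ h6
      have hw2 : x * w' * x⁻¹ = w' ∨ x * w' * x⁻¹ = z * w' := by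
        obtain ⟨v0, hv0⟩ : ∃ v0, v0 = e * (k * (x * k * x⁻¹)) := ⟨_, rfl⟩
        have h8 : x * v0 * x⁻¹ = v0 := by
          have h10 : (k * (x * k * x⁻¹))⁻¹ = k * (x * k * x⁻¹) := by
            rw [← h5]
            have h11 : x * (x * k * x⁻¹) * x⁻¹ = k := by
              calc x * (x * k * x⁻¹) * x⁻¹ = (x * x) * k * (x * x)⁻¹ := by group
                _ = k := by rw [hx]; group
            calc x * (k * (x * k * x⁻¹)) * x⁻¹ = (x * k * x⁻¹) * (x * (x * k * x⁻¹) * x⁻¹) := by group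
              _ = (x * k * x⁻¹) * k := by rw [h11]
              _ = k * (x * k * x⁻¹) := h.swap_comm hKz hxz hc hk hk
          rw [hv0]
          calc x * (e * (k * (x * k * x⁻¹))) * x⁻¹ = (x * e) * (k * (x * k * x⁻¹)) * x⁻¹ := by group
            _ = (e * x) * (k * (x * k * x⁻¹)) * x⁻¹ := by rw [hex]
            _ = e * (x * (k * (x * k * x⁻¹)) * x⁻¹) := by group
            _ = e * (k * (x * k * x⁻¹)) := by rw [h5, h10]
        rw [h7, ← hv0] at hvv
        have h9 : x * (v0 * w') * x⁻¹ = v0 * (x * w' * x⁻¹) := by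
          calc x * (v0 * w') * x⁻¹ = (x * v0 * x⁻¹) * (x * w' * x⁻¹) := by group
            _ = _ := by rw [h8]
        rw [h9] at hvv
        rcases hvv with h10 | h10
        · left; exact mul_left_cancel h10
        · right
          have hv0c : z * v0 = v0 * z := by
            rw [hv0]
            have hze : z * e = e * z := by
              rcases he1 with rfl | rfl
              · rw [one_mul, mul_one]
              · rfl
            calc z * (e * (k * (x * k * x⁻¹))) = (z * e) * (k * (x * k * x⁻¹)) := by group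
              _ = e * (z * (k * (x * k * x⁻¹))) := by rw [hze]; group
              _ = _ := by rw [hv0z]; group
          have h11 : v0 * (x * w' * x⁻¹) = v0 * (z * w') := by
            rw [h10, ← mul_assoc, hv0c, mul_assoc]
          exact mul_left_cancel h11
      have g2 := ih _ hcard 𝒥 rfl (h𝒥s.trans h𝒦) hinv' w' hw' hw2
      have hSc : ∀ r ∈ SS {K, K'}, ∀ w ∈ SS 𝒥, r * w = w * r := by
        intro r hr w1 hw1
        refine (SS_comm (x := w1) (fun L hL l hl => ?_) hr).symm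
        rcases hL with hL | hL
        · rw [hL] at hl; exact hcS w1 hw1 l hl
        · rw [Set.mem_singleton_iff] at hL; rw [hL] at hl; exact hcS' w1 hw1 l hl
      have hpair : ({K, K'} : Set (Subgroup G)) ⊆ 𝒦 := by
        rintro L (rfl | hL)
        · exact hK
        · rw [Set.mem_singleton_iff] at hL; rw [hL]; exact hK'm
      have hv0m : e * (k * (x * k * x⁻¹)) ∈ SS {K, K'} := by
        refine mul_mem ?_ (mul_mem (mem_SS_of (Set.mem_insert _ _) hk)
          (mem_SS_of (Set.mem_insert_of_mem _ rfl) hxk))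
        rcases he1 with rfl | rfl
        · exact one_mem _
        · exact mem_SS_of (Set.mem_insert _ _) (h.Ov_mem hKz)
      have g3 := h.Gd_mul hzz hSc (fun r hr => h.SS_cen (hpair.trans h𝒦) hr) hv0m hw'
        (fun s hs => SS_cj_le hinv' hs) g1 g2
      rw [h7]
      have hU : ({K, K'} : Set (Subgroup G)) ∪ 𝒥 = 𝒦 := by
        ext L
        rw [h𝒥]
        constructor
        · rintro (hL | hL)
          · exact hpair hL
          · exact hL.1.1
        · intro hL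
          by_cases h8 : L = K
          · left; left; exact h8
          by_cases h9 : L = K'
          · left; right; exact h9
          · right; exact ⟨⟨hL, h8⟩, h9⟩
      rwa [hU] at g3

/-- **SURJ** -/
theorem surj [Finite G] (hz : z ∈ ZZ Om) (hx : x * x = 1) (hxz : x * z = z * x) (hf : Fr Om x z) (hv : v ∈ RR Om z)
    (hvv : x * v * x⁻¹ = v ∨ x * v * x⁻¹ = z * v) :
    x * v * x⁻¹ = v⁻¹ ∧ ∃ r ∈ RR Om z, x * r * x⁻¹ * r⁻¹ = v ∨ x * r * x⁻¹ * r⁻¹ = z * v :=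
  h.surj_aux hz hx hxz hf _ _ rfl subset_rfl (fun _ hK => h.Ov_cj' hK hxz) v hv hvv

end

end WR

end Cfsg.Agent.Cit.Nil.RG
end

-- part: Cit/Nil/RG/TZero
section
set_option linter.all false
open scoped Cfsg.Agent.FastGrp

/-!
# (6b), general `r`: THEOREM T0' (helper488)

`WR Om`, no pair of type I, at least three members over each involution: commuting elements `u ≠ v` of `ZZ Om`
are C-pairs (`cp_of_comm`).
-/

set_option autoImplicit false
set_option linter.style.haveILetI false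
set_option linter.unusedSectionVars false

namespace Cfsg.Agent.Cit.Nil.RG

open Subgroup Cfsg Cit QuaternionGroup
open Cfsg.Agent.Cit.Nil.ROne

variable {G : Type*} [Group G]

/-- no pair of type I -/
def NoTI (Om : Set (Subgroup G)) : Prop := ∀ u ∈ ZZ Om, ∀ v ∈ ZZ Om, ¬ TI Om u v

/-- at least three members over each involution -/
def R3 (Om : Set (Subgroup G)) : Prop := ∀ z ∈ ZZ Om, 3 ≤ (Ov Om z).ncard

theorem exists_third [Finite G] {Om : Set (Subgroup G)} {z : G} (h3 : 3 ≤ (Ov Om z).ncard) (K L : Subgroup G) :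
    ∃ M ∈ Ov Om z, M ≠ K ∧ M ≠ L := by
  by_contra hcon
  push Not at hcon
  have h1 : Ov Om z ⊆ {K, L} := by
    intro M hM
    by_cases hMK : M = K
    · exact Or.inl hMK
    · exact Or.inr (hcon M hM hMK)
  have h2 := Set.ncard_le_ncard h1 (Set.toFinite _)
  have h4 : ({K, L} : Set (Subgroup G)).ncard ≤ 2 := by
    have h5 := Set.ncard_insert_le K ({L} : Set (Subgroup G))
    rw [Set.ncard_singleton] at h5
    exact h5
  omega

namespace WR

variable {Om : Set (Subgroup G)} {𝒦 𝒦' : Set (Subgroup G)} {K L M : Subgroup G}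
  {z x y g g' u v w a a' b k l r s t i p q : G}

section

variable (h : WR Om)

include h

/-- `[x, k]` is centralised by `x`, for a moved member -/
theorem swap_f (hK : K ∈ Ov Om z) (hx : x * x = 1) (hxz : x * z = z * x) (hc : cj x K ≠ K) (hk : k ∈ K) :
    x * (x * k * x⁻¹ * k⁻¹) = (x * k * x⁻¹ * k⁻¹) * x := by
  have hzz := h.zz_sq (Ov_zz hK)
  have hxi : x⁻¹ = x := inv_eq_of_mul_eq_one_right hx
  have h1 : x * (x * k * x⁻¹ * k⁻¹) * x⁻¹ = k * (x * k⁻¹ * x⁻¹) := by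
    calc x * (x * k * x⁻¹ * k⁻¹) * x⁻¹ = (x * x) * k * (x⁻¹ * k⁻¹ * x⁻¹) := by group
      _ = k * (x⁻¹ * k⁻¹ * x⁻¹) := by rw [hx, one_mul]
      _ = _ := by rw [hxi]
  have h2 := h.swap_comm hK hxz hc (inv_mem hk) hk
  have h3 : k * (x * k⁻¹ * x⁻¹) = x * k * x⁻¹ * k⁻¹ := by
    rw [← h2]
    rcases h.inv_or hK hk with h5 | h5
    · rw [h5]
    · have h6 : k = z * k⁻¹ := by rw [h5, ← mul_assoc, hzz, one_mul]
      have hxk : z * (x * k⁻¹ * x⁻¹) = (x * k⁻¹ * x⁻¹) * z :=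
        h.Ov_cen (h.Ov_cj' hK hxz) (conj_mem_cj (g := x) (inv_mem hk))
      calc x * k⁻¹ * x⁻¹ * k = x * k⁻¹ * x⁻¹ * (z * k⁻¹) := by rw [← h6]
        _ = ((x * k⁻¹ * x⁻¹) * z) * k⁻¹ := by group
        _ = (z * (x * k⁻¹ * x⁻¹)) * k⁻¹ := by rw [hxk]
        _ = (z * x) * k⁻¹ * x⁻¹ * k⁻¹ := by group
        _ = (x * z) * k⁻¹ * x⁻¹ * k⁻¹ := by rw [hxz]
        _ = x * (z * k⁻¹) * x⁻¹ * k⁻¹ := by group
        _ = x * k * x⁻¹ * k⁻¹ := by rw [← h6]
  rw [h3, mul_inv_eq_iff_eq_mul] at h1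
  exact h1

theorem f_mem (hK : K ∈ Ov Om z) (hxz : x * z = z * x) (hk : k ∈ K) : x * k * x⁻¹ * k⁻¹ ∈ RR Om z :=
  mul_mem (le_RR (h.Ov_cj' hK hxz) (conj_mem_cj hk)) (inv_mem (le_RR hK hk))

/-- an element of order four in a member does not centralise the member -/
theorem four_nc (hK : K ∈ Ov Om z) (hk : k ∈ K) (hkk : k * k = z) : ¬ ∀ l ∈ K, k * l = l * k := by
  intro hc
  rcases h.Ov_central hK hk hc with h1 | h1
  · rw [h1, one_mul] at hkk
    exact h.zz_ne (Ov_zz hK) hkk.symm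
  · rw [h1, h.zz_sq (Ov_zz hK)] at hkk
    exact h.zz_ne (Ov_zz hK) hkk.symm

theorem inv_nc (hc : ¬ ∀ l ∈ K, k * l = l * k) : ¬ ∀ l ∈ K, k⁻¹ * l = l * k⁻¹ := by
  intro h1
  apply hc
  intro l hl
  have h2 := h1 l hl
  calc k * l = k * (l * k⁻¹) * k := by group
    _ = k * (k⁻¹ * l) * k := by rw [h2]
    _ = l * k := by group

/-- `[x, k]` does not centralise `K`, for a moved member -/
theorem f_nc (hK : K ∈ Ov Om z) (hxz : x * z = z * x) (hc : cj x K ≠ K) (hk : k ∈ K) (hkk : k * k = z) :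
    ¬ ∀ l ∈ K, (x * k * x⁻¹ * k⁻¹) * l = l * (x * k * x⁻¹ * k⁻¹) := by
  intro h1
  refine h.inv_nc (h.four_nc hK hk hkk) fun l hl => ?_
  have h2 := h1 l hl
  have h3 := h.swap_comm hK hxz hc hk hl
  have h4 : (x * k * x⁻¹) * (k⁻¹ * l) = (x * k * x⁻¹) * (l * k⁻¹) := by
    calc (x * k * x⁻¹) * (k⁻¹ * l) = (x * k * x⁻¹ * k⁻¹) * l := by group
      _ = l * (x * k * x⁻¹ * k⁻¹) := h2
      _ = (l * (x * k * x⁻¹)) * k⁻¹ := by group
      _ = (x * k * x⁻¹ * l) * k⁻¹ := by rw [h3]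
      _ = _ := by group
  exact mul_left_cancel h4

/-- the square of an axis -/
theorem tr_com (hK : K ∈ Ov Om z) (ht : Tr x K a) : x * a * x⁻¹ * a⁻¹ = z := by
  have hz := Ov_zz hK
  rw [ht.inv, ← _root_.mul_inv_rev, ht.sq, hK.2, h.zz_inv hz]

variable [Finite G]

section NT

variable (hT : NoTI Om)

include hT

/-- (Z0) -/
theorem z0 (hs : s ∈ ZZ Om) (ht : t ∈ ZZ Om) (htr : t ∈ RR Om s) : t = s := by
  by_contra hne
  rcases h.tri hs ht (Ne.symm hne) with h1 | h1 | h1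
  · rcases h.RR_center htr (fun K hK k hk => h.CP_inn h1.symm ht hK k hk) with h2 | h2
    · exact h.zz_ne ht h2
    · exact hne h2
  · exact hT s hs t ht h1
  · obtain ⟨K, hK⟩ := hs
    have h2 := h.RR_inn htr hK
    exact h1.2 K hK h2.cj_eq h2

theorem fr_of (hu : u ∈ ZZ Om) (hv : v ∈ ZZ Om) (hne : u ≠ v) (hc : ¬ CP Om u v) : Fr Om u v ∧ Fr Om v u := by
  rcases h.tri hu hv hne with h1 | h1 | h1
  · exact absurd h1 hc
  · exact absurd h1 (hT u hu v hv)
  · exact h1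

theorem cp_inf (hu : u ∈ ZZ Om) (hv : v ∈ ZZ Om) (hc : CP Om u v) (hi : i ∈ RR Om u) (hi' : i ∈ RR Om v) : i = 1 := by
  rcases h.RR_center hi (fun K hK k hk => (h.CP_RR hc (le_RR hK hk) hi').symm) with h2 | h2
  · exact h2
  · rw [h2] at hi'
    exact absurd (h.z0 hT hv hu hi') hc.1

/-- (I1) -/
theorem i1 (hu : u ∈ ZZ Om) (hv : v ∈ ZZ Om) (hne : u ≠ v) (huv : u * v = v * u) (hi : i ∈ RR Om u)
    (hi' : i ∈ RR Om v) (h1 : i ≠ 1) : u * v * i ∈ ZZ Om := by
  by_cases hc : CP Om u v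
  · exact absurd (h.cp_inf hT hu hv hc hi hi') h1
  obtain ⟨hf, -⟩ := h.fr_of hT hu hv hne hc
  have hui := h.RR_cen hi
  obtain ⟨-, r, hr, h2⟩ := h.surj hv (h.zz_sq hu) huv hf hi' (Or.inl (by rw [hui, mul_inv_cancel_right]))
  have h3 := conj_eq (r := r) (h.zz_sq hu)
  have h4 := h.zz_cj hu r
  rw [h3] at h4
  rcases h2 with h2 | h2
  · rw [h2] at h4
    exact absurd (mul_eq_left.1 (h.z0 hT hu h4 (mul_mem (h.RR_mem hu) hi))) h1
  · rw [h2, ← mul_assoc] at h4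
    exact h4

/-- (I2) -/
theorem i2 (h3 : R3 Om) (hs : s ∈ ZZ Om) (hx : x ∈ ZZ Om) (hne : x ≠ s) (hxs : x * s = s * x)
    (hi : i ∈ RR Om s) (hi' : i ∈ RR Om x) : i = 1 := by
  by_contra h1
  by_cases hcp : CP Om x s
  · exact h1 (h.cp_inf hT hx hs hcp hi' hi)
  obtain ⟨hf, hf'⟩ := h.fr_of hT hx hs hne hcp
  have hxx := h.zz_sq hx
  have hss := h.zz_sq hs
  have hsi := h.RR_cen hi
  have hxi := h.RR_cen hi'
  -- `x` moves all members
  have hm : ∀ K ∈ Ov Om s, cj x K ≠ K := by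
    intro K hK hc
    rcases h.inn_or_tr hK.1 hc hxx with h2 | ⟨a, ha⟩
    · exact hf K hK hc h2
    have haR : a ∈ RR Om s := le_RR hK ha.mem
    have h4 : a * x * a⁻¹ = x * s := by rw [conj_eq hxx, h.tr_com hK ha]
    have has : a * s = s * a := (h.RR_cen haR).symm
    -- `a` commutes with `i`
    have h5 : a * i * a⁻¹ = i := by
      obtain ⟨-, r, hr, h6⟩ := h.surj hs hxx hxs hf hi (Or.inl (by rw [hxi, mul_inv_cancel_right]))
      have h7 : a * (x * r * x⁻¹ * r⁻¹) * a⁻¹ = x * r * x⁻¹ * r⁻¹ := by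
        have h8 : a * (x * r * x⁻¹ * r⁻¹) * a⁻¹ = (a * x * a⁻¹) * (a * r * a⁻¹) * (a * x * a⁻¹)⁻¹ * (a * r * a⁻¹)⁻¹ := by
          group
        have hrs : r * s = s * r := (h.RR_cen hr).symm
        have h9 : ∀ r', r' * s = s * r' → (x * s) * r' * (x * s)⁻¹ = x * r' * x⁻¹ := by
          intro r' hr'
          calc (x * s) * r' * (x * s)⁻¹ = x * (s * r') * s⁻¹ * x⁻¹ := by group
            _ = x * (r' * s) * s⁻¹ * x⁻¹ := by rw [hr']
            _ = _ := by group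
        rw [h8, h4]
        rcases h.RR_conj haR hr with h10 | h10
        · rw [h10, h9 r hrs]
        · have h11 : s * r * s = s * (s * r) := by rw [mul_assoc, hrs]
          rw [h10, h9 _ h11]
          calc x * (s * r) * x⁻¹ * (s * r)⁻¹ = (x * s) * r * x⁻¹ * (s * r)⁻¹ := by group
            _ = (s * x) * r * x⁻¹ * (r * s)⁻¹ := by rw [hxs, hrs]
            _ = s * (x * r * x⁻¹) * (s⁻¹ * r⁻¹) := by group
            _ = s * (x * r * x⁻¹) * (s * r⁻¹) := by rw [h.zz_inv hs]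
            _ = s * (x * r * (x⁻¹ * s)) * r⁻¹ := by group
            _ = s * (x * r * (s * x⁻¹)) * r⁻¹ := by rw [h.zz_inv hx, hxs]
            _ = s * (x * (r * s)) * x⁻¹ * r⁻¹ := by group
            _ = s * (x * (s * r)) * x⁻¹ * r⁻¹ := by rw [hrs]
            _ = s * (x * s) * r * x⁻¹ * r⁻¹ := by group
            _ = s * (s * x) * r * x⁻¹ * r⁻¹ := by rw [hxs]
            _ = (s * s) * (x * r * x⁻¹ * r⁻¹) := by group
            _ = _ := by rw [hss, one_mul]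
      rcases h6 with h6 | h6
      · rw [h6] at h7; exact h7
      · rw [h6] at h7
        have h8 : a * (s * i) * a⁻¹ = s * (a * i * a⁻¹) := by
          calc a * (s * i) * a⁻¹ = (a * s) * i * a⁻¹ := by group
            _ = _ := by rw [has]; group
        rw [h8] at h7
        exact mul_left_cancel h7
    have h6 : x * s ∈ ZZ Om := by rw [← h4]; exact h.zz_cj hx a
    have h7 : i ∈ RR Om (x * s) := by
      have := h.RR_cj hi' a
      rwa [h5, h4] at this
    have h8 := h.i1 hT hs h6 (fun h9 => h.zz_ne hx (by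
      have h10 : 1 * s = x * s := by rw [one_mul]; exact h9
      exact (mul_right_cancel h10).symm)) (by rw [← mul_assoc, ← hxs, mul_assoc]) hi h7 h1
    have h9 : s * (x * s) * i = x * i := by
      rw [← mul_assoc, ← hxs, mul_assoc x s s, hss, mul_one]
    rw [h9] at h8
    exact h1 (mul_eq_left.1 (h.z0 hT hx h8 (mul_mem (h.RR_mem hx) hi')))
  -- `i ∈ K K^x` for all `K`
  have hsup : ∀ K ∈ Ov Om s, i ∈ SS {K, cj x K} := by
    intro K hK
    have hc := hm K hK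
    obtain ⟨k0, hk0, w, hw, hiw, hcw⟩ := h.SS_split (𝒦 := Ov Om s) subset_rfl hK hi
    have h4 : ∃ k ∈ K, k * k = s ∧ k * i = i * k := by
      by_cases h5 : k0 = 1 ∨ k0 = s
      · obtain ⟨k, hk, hkk⟩ := h.exists_four hK.1
        refine ⟨k, hk, by rw [hkk, hK.2], ?_⟩
        have h6 : k * k0 = k0 * k := by
          rcases h5 with h5 | h5
          · rw [h5, one_mul, mul_one]
          · rw [h5]; exact (h.Ov_cen hK hk).symm
        rw [hiw, ← mul_assoc, h6, mul_assoc, ← hcw k hk, mul_assoc]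
      · push Not at h5
        refine ⟨k0, hk0, ?_, ?_⟩
        · have := h.sq_eq hK.1 hk0 h5.1 (by rw [hK.2]; exact h5.2)
          rw [this, hK.2]
        · rw [hiw, mul_assoc, hcw k0 hk0]
    obtain ⟨k, hk, hkk, hki⟩ := h4
    obtain ⟨f, hf0⟩ : ∃ f, f = x * k * x⁻¹ * k⁻¹ := ⟨_, rfl⟩
    have hxf : x * f = f * x := by rw [hf0]; exact h.swap_f hK hxx hxs hc hk
    have hfR : f ∈ RR Om s := by rw [hf0]; exact h.f_mem hK hxs hk
    have hx' : k * x * k⁻¹ = x * f := by rw [conj_eq hxx, hf0]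
    have hxZ : x * f ∈ ZZ Om := by rw [← hx']; exact h.zz_cj hx k
    have hf1 : f ≠ 1 := by
      intro h5
      refine h.f_nc hK hxs hc hk hkk fun l hl => ?_
      rw [← hf0, h5, one_mul, mul_one]
    have hi'' : i ∈ RR Om (x * f) := by
      have h5 := h.RR_cj hi' k
      rwa [hki, mul_inv_cancel_right, hx'] at h5
    have h5 := h.i1 hT hx hxZ (fun h6 => hf1 (mul_eq_left.1 h6.symm)) (by rw [mul_assoc, ← hxf]) hi' hi'' h1
    have h6 : x * (x * f) * i = f * i := by rw [← mul_assoc, hxx, one_mul]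
    rw [h6] at h5
    have h7 := h.z0 hT hs h5 (mul_mem hfR hi)
    have h8 : i = f⁻¹ * s := by rw [← h7]; group
    have h9 : s ∈ SS {K, cj x K} := mem_SS_of (Set.mem_insert _ _) (h.Ov_mem hK)
    have h10 : f ∈ SS {K, cj x K} := by
      rw [hf0]
      exact mul_mem (mem_SS_of (Set.mem_insert_of_mem _ rfl) (conj_mem_cj hk))
        (inv_mem (mem_SS_of (Set.mem_insert _ _) hk))
    rw [h8]
    exact mul_mem (inv_mem h10) h9
  have hcen : ∀ M ∈ Ov Om s, ∀ m ∈ M, i * m = m * i := by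
    intro M hM m hm'
    obtain ⟨K, hK, hKM, hKM'⟩ := exists_third (h3 s hs) M (cj x M)
    refine (SS_comm (x := m) (fun L hL l hl => ?_) (hsup K hK)).symm
    rcases hL with rfl | hL
    · exact h.Ov_comm hM hK hKM.symm hm' hl
    · rw [Set.mem_singleton_iff] at hL
      subst hL
      refine h.Ov_comm hM (h.Ov_cj' hK hxs) (fun h5 => hKM' ?_) hm' hl
      rw [h5, ← cj_mul, hxx, cj_one]
  rcases h.RR_center hi hcen with h5 | h5
  · exact h1 h5
  · rw [h5] at hi'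
    exact hne (h.z0 hT hx hs hi').symm

/-- `C_{R_s}(x)` and `C_{R_x}(s)` commute -/
theorem comm2 (h3 : R3 Om) (hs : s ∈ ZZ Om) (hx : x ∈ ZZ Om) (hne : x ≠ s) (hxs : x * s = s * x)
    (hp : p ∈ RR Om s) (hpx : p * x = x * p) (hq : q ∈ RR Om x) (hqs : q * s = s * q) : p * q = q * p := by
  have h1 : p * q * p⁻¹ * q⁻¹ = 1 := by
    refine h.i2 hT h3 hs hx hne hxs ?_ ?_
    · have h2 := h.RR_cj' (inv_mem hp) hqs
      have h4 : p * q * p⁻¹ * q⁻¹ = p * (q * p⁻¹ * q⁻¹) := by group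
      rw [h4]
      exact mul_mem hp h2
    · exact mul_mem (h.RR_cj' hq hpx) (inv_mem hq)
  have h4 : p * q = (p * q * p⁻¹ * q⁻¹) * (q * p) := by group
  rw [h4, h1, one_mul]

/-- (DICH) -/
theorem cp_of_inn (hx : x ∈ ZZ Om) (hxp : x * p ∈ ZZ Om) (hp1 : p ≠ 1) (hL : L ∈ Ov Om x) (hi : Inn p L) :
    CP Om x (x * p) := by
  by_contra hc
  obtain ⟨-, hf⟩ := h.fr_of hT hx hxp (fun h1 => hp1 (mul_eq_left.1 h1.symm)) hc
  have h1 : Inn (x * p) L := (Inn.of_comm fun l hl => h.Ov_cen hL hl).mul hi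
  exact hf L hL h1.cj_eq h1

end NT

/-- an element centralising `[s, l]` for all `l ∈ L` -/
theorem like_aux (hL : L ∈ Ov Om x) (hsx : s * x = x * s) (hgs : g * s = s * g) (hgL : cj g L = L) (hsL : cj s L ≠ L)
    (hg : ∀ l ∈ L, g * (s * l * s⁻¹ * l⁻¹) = (s * l * s⁻¹ * l⁻¹) * g) : Inn g L := by
  refine h.inn_of_mod hL.1 hgL fun l hl => ?_
  have h1 := hg l hl
  -- `m = l⁻¹ · g l g⁻¹`
  have h2 : l⁻¹ * (g * l * g⁻¹) = (s * l * s⁻¹)⁻¹ * (g * (s * l * s⁻¹) * g⁻¹) := by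
    have h3 : g * (s * l * s⁻¹) * g⁻¹ * (g * l * g⁻¹)⁻¹ = (s * l * s⁻¹) * l⁻¹ := by
      calc g * (s * l * s⁻¹) * g⁻¹ * (g * l * g⁻¹)⁻¹ = g * (s * l * s⁻¹ * l⁻¹) * g⁻¹ := by group
        _ = _ := by rw [h1]; group
    calc l⁻¹ * (g * l * g⁻¹) = (s * l * s⁻¹)⁻¹ * ((s * l * s⁻¹) * l⁻¹) * (g * l * g⁻¹) := by group
      _ = (s * l * s⁻¹)⁻¹ * (g * (s * l * s⁻¹) * g⁻¹ * (g * l * g⁻¹)⁻¹) * (g * l * g⁻¹) := by rw [h3]
      _ = _ := by group
  have hgs' : cj g (cj s L) = cj s L := by rw [← cj_mul, hgs, cj_mul, hgL]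
  have h3 : l⁻¹ * (g * l * g⁻¹) ∈ cj s L := by
    rw [h2]
    have h4 : s * l * s⁻¹ ∈ cj s L := conj_mem_cj hl
    exact mul_mem (inv_mem h4) (conj_mem_of_cj hgs' h4)
  have h5 : l⁻¹ * (g * l * g⁻¹) = 1 ∨ l⁻¹ * (g * l * g⁻¹) = x := by
    refine h.Ov_central hL (mul_mem (inv_mem hl) (conj_mem_of_cj hgL hl)) fun m hm => ?_
    exact h.Ov_comm (h.Ov_cj' hL hsx) hL hsL h3 hm
  rcases h5 with h5 | h5
  · left; rw [inv_mul_eq_one] at h5; exact h5.symm
  · right; rw [inv_mul_eq_iff_eq_mul] at h5; rw [h5, hL.2, h.Ov_cen hL hl]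

section NT2

variable (hT : NoTI Om)

include hT

/-- (LIKE) -/
theorem like (h3 : R3 Om) (hs : s ∈ ZZ Om) (hx : x ∈ ZZ Om) (hne : x ≠ s) (hxs : x * s = s * x)
    (hf' : Fr Om s x) : ∃ L ∈ Ov Om x, ∀ p ∈ RR Om s, p * x = x * p → Inn p L ∨ Inn (p * s) L := by
  have hss := h.zz_sq hs
  have hsx := hxs.symm
  by_cases hm : ∃ L ∈ Ov Om x, cj s L ≠ L
  · obtain ⟨L, hL, hsL⟩ := hm
    refine ⟨L, hL, fun p hp hpx => ?_⟩
    have hps : p * s = s * p := (h.RR_cen hp).symm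
    have hpq : ∀ l ∈ L, p * (s * l * s⁻¹ * l⁻¹) = (s * l * s⁻¹ * l⁻¹) * p := fun l hl =>
      h.comm2 hT h3 hs hx hne hxs hp hpx (h.f_mem hL hsx hl) (h.swap_f hL hss hsx hsL hl).symm
    by_cases h1 : cj p L = L
    · exact Or.inl (h.like_aux hL hsx hps h1 hsL hpq)
    by_cases h2 : cj p L = cj s L
    · right
      refine h.like_aux hL hsx (by rw [mul_assoc, hss, hps, ← mul_assoc, hss, one_mul, mul_one]) ?_ hsL ?_
      · rw [hps, cj_mul, h2, ← cj_mul, hss, cj_one]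
      · intro l hl
        have h4 := hpq l hl
        have h5 := h.swap_f hL hss hsx hsL hl
        rw [mul_assoc, h5, ← mul_assoc, h4, mul_assoc]
    · exfalso
      obtain ⟨l, hl, hll⟩ := h.exists_four hL.1
      rw [hL.2] at hll
      refine h.f_nc hL hsx hsL hl hll fun m hm => ?_
      have h4 : s * l * s⁻¹ * l⁻¹ = (s * (p * l * p⁻¹) * s⁻¹) * (p * l * p⁻¹)⁻¹ := by
        have h5 : p * (s * l * s⁻¹ * l⁻¹) * p⁻¹ = s * l * s⁻¹ * l⁻¹ := by rw [hpq l hl, mul_inv_cancel_right]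
        have h6 : p * (s * l * s⁻¹ * l⁻¹) * p⁻¹ = (p * s) * l * (p * s)⁻¹ * (p * l * p⁻¹)⁻¹ := by group
        rw [← h5, h6, hps]
        group
      have h5 : cj p L ∈ Ov Om x := h.Ov_cj' hL hpx
      have h6 : ∀ l' ∈ cj p L, l' * m = m * l' := fun l' hl' => h.Ov_comm h5 hL h1 hl' hm
      have h7 : ∀ l' ∈ cj s (cj p L), l' * m = m * l' := fun l' hl' => by
        refine h.Ov_comm (h.Ov_cj' h5 hsx) hL (fun h8 => h2 ?_) hl' hm
        calc cj p L = cj s (cj s (cj p L)) := by rw [← cj_mul s s, hss, cj_one]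
          _ = cj s L := by rw [h8]
      have h8 : p * l * p⁻¹ ∈ cj p L := conj_mem_cj hl
      rw [h4, mul_assoc, h6 _ (inv_mem h8), ← mul_assoc, h7 _ (conj_mem_cj h8), mul_assoc]
  · push Not at hm
    -- axes
    have hax : ∀ M ∈ Ov Om x, ∃ a, Tr s M a := by
      intro M hM
      rcases h.inn_or_tr hM.1 (hm M hM) hss with h4 | h4
      · exact absurd h4 (hf' M hM (hm M hM))
      · exact h4
    have hsi : ∀ M a, Tr s M a → M ∈ Ov Om x → a * a = x ∧ s * a * s⁻¹ = x * a := by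
      intro M a ha hM
      refine ⟨by rw [ha.sq, hM.2], ?_⟩
      rw [ha.inv, h.inv_eq hM.1 ha.mem ha.sq, hM.2]
    have hxx := h.zz_sq hx
    obtain ⟨L, hL⟩ := id hx
    obtain ⟨a, ha⟩ := hax L hL
    refine ⟨L, hL, fun p hp hpx => ?_⟩
    have hps : p * s = s * p := (h.RR_cen hp).symm
    -- `p` centralises `a a'`
    have hpq : ∀ L' ∈ Ov Om x, L' ≠ L → ∀ a', Tr s L' a' → p * (a * a') * p⁻¹ = a * a' := by
      intro L' hL' hne' a' ha'
      have h4 : (a * a') * s = s * (a * a') := by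
        have h5 := (hsi L a ha hL).2
        have h6 := (hsi L' a' ha' hL').2
        have h7 : s * (a * a') * s⁻¹ = a * a' := by
          calc s * (a * a') * s⁻¹ = (s * a * s⁻¹) * (s * a' * s⁻¹) := by group
            _ = x * a * (x * a') := by rw [h5, h6]
            _ = x * (a * x) * a' := by group
            _ = x * (x * a) * a' := by rw [← h.Ov_cen hL ha.mem]
            _ = (x * x) * (a * a') := by group
            _ = a * a' := by rw [hxx, one_mul]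
        rw [mul_inv_eq_iff_eq_mul] at h7
        exact h7.symm
      have h5 := h.comm2 hT h3 hs hx hne hxs hp hpx (mul_mem (le_RR hL ha.mem) (le_RR hL' ha'.mem)) h4
      rw [h5, mul_inv_cancel_right]
    -- `p` fixes `L`
    have hpL : cj p L = L := by
      by_contra hcp
      obtain ⟨L', hL', hne1, hne2⟩ := exists_third (h3 x hx) L (cj p L)
      obtain ⟨a', ha'⟩ := hax L' hL'
      have h4 := hpq L' hL' hne1 a' ha'
      have h5 : (p * a * p⁻¹) * (p * a' * p⁻¹) = a * a' := by rw [← h4]; group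
      have hM := h.Ov_cj' hL hpx
      have hM' := h.Ov_cj' hL' hpx
      have h6 : p * a * p⁻¹ ∈ cj p L := conj_mem_cj ha.mem
      have h7 : p * a' * p⁻¹ ∈ cj p L' := conj_mem_cj ha'.mem
      by_cases hc' : cj p L' = L
      · -- `L'` is not moved onto itself
        refine h.four_nc hL' ha'.mem (hsi L' a' ha' hL').1 fun m hm' => ?_
        have h8 := h.Ov_comm hM hL' hne2.symm h6 hm'
        have h9 := h.Ov_comm hM' hL' (by rw [hc']; exact hne1.symm) h7 hm'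
        have h10 := h.Ov_comm hL hL' hne1.symm ha.mem hm'
        have h11 : a * (a' * m) = a * (m * a') := by
          calc a * (a' * m) = (p * a * p⁻¹) * ((p * a' * p⁻¹) * m) := by rw [← mul_assoc, ← h5, mul_assoc]
            _ = ((p * a * p⁻¹) * m) * (p * a' * p⁻¹) := by rw [h9, ← mul_assoc]
            _ = m * ((p * a * p⁻¹) * (p * a' * p⁻¹)) := by rw [h8, mul_assoc]
            _ = (m * a) * a' := by rw [h5, mul_assoc]
            _ = a * (m * a') := by rw [← h10, mul_assoc]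
        exact mul_left_cancel h11
      · refine h.four_nc hL ha.mem (hsi L a ha hL).1 fun m hm' => ?_
        have h8 := h.Ov_comm hM hL hcp h6 hm'
        have h9 := h.Ov_comm hM' hL hc' h7 hm'
        have h10 := h.Ov_comm hL' hL hne1 ha'.mem hm'
        have h11 : (a * m) * a' = (m * a) * a' := by
          calc (a * m) * a' = a * (m * a') := by group
            _ = a * (a' * m) := by rw [h10]
            _ = (p * a * p⁻¹) * ((p * a' * p⁻¹) * m) := by rw [← mul_assoc, ← h5, mul_assoc]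
            _ = ((p * a * p⁻¹) * m) * (p * a' * p⁻¹) := by rw [h9, ← mul_assoc]
            _ = m * ((p * a * p⁻¹) * (p * a' * p⁻¹)) := by rw [h8, mul_assoc]
            _ = (m * a) * a' := by rw [h5, mul_assoc]
        exact mul_right_cancel h11
    -- `p` fixes the axis
    obtain ⟨L', hL', hne1, -⟩ := exists_third (h3 x hx) L L
    obtain ⟨a', ha'⟩ := hax L' hL'
    have h4 := hpq L' hL' hne1 a' ha'
    have h5 : (p * a * p⁻¹) * (p * a' * p⁻¹) = a * a' := by rw [← h4]; group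
    have hpL' : ∀ m ∈ L, (p * a' * p⁻¹) * m = m * (p * a' * p⁻¹) := by
      intro m hm'
      have h6 : p⁻¹ * m * p ∈ L := by
        have := conj_mem_of_cj (cj_inv_eq hpL) hm'
        rwa [inv_inv] at this
      have h7 := h.Ov_comm hL' hL hne1 ha'.mem h6
      calc (p * a' * p⁻¹) * m = p * (a' * (p⁻¹ * m * p)) * p⁻¹ := by group
        _ = p * ((p⁻¹ * m * p) * a') * p⁻¹ := by rw [h7]
        _ = _ := by group
    have h6 : a⁻¹ * (p * a * p⁻¹) = 1 ∨ a⁻¹ * (p * a * p⁻¹) = x := by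
      refine h.Ov_central hL (mul_mem (inv_mem ha.mem) (conj_mem_of_cj hpL ha.mem)) fun m hm' => ?_
      have h7 : a⁻¹ * (p * a * p⁻¹) = a' * (p * a' * p⁻¹)⁻¹ := by
        calc a⁻¹ * (p * a * p⁻¹) = a⁻¹ * ((p * a * p⁻¹) * (p * a' * p⁻¹)) * (p * a' * p⁻¹)⁻¹ := by group
          _ = a⁻¹ * (a * a') * (p * a' * p⁻¹)⁻¹ := by rw [h5]
          _ = _ := by group
      have h8 := hpL' m hm'
      have h9 : (p * a' * p⁻¹)⁻¹ * m = m * (p * a' * p⁻¹)⁻¹ := by
        rw [inv_mul_eq_iff_eq_mul, ← mul_assoc, h8, mul_inv_cancel_right]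
      rw [h7, mul_assoc, h9, ← mul_assoc, h.Ov_comm hL' hL hne1 ha'.mem hm', mul_assoc]
    have h7 : p * a * p⁻¹ = a ∨ p * a * p⁻¹ = a⁻¹ := by
      rcases h6 with h6 | h6
      · left; rw [inv_mul_eq_one] at h6; exact h6.symm
      · right
        rw [inv_mul_eq_iff_eq_mul] at h6
        rw [h6, h.inv_eq hL.1 ha.mem ha.sq, hL.2, h.Ov_cen hL ha.mem]
    -- `p² = 1`
    rcases h.RR_sq hp with hpp | hpp
    swap
    · exfalso
      have h8 := h.inn_sq hL.1 hpL (by rw [hpp, hss])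
      rw [hpp] at h8
      exact hf' L hL (hm L hL) h8
    rcases h.inn_or_tr hL.1 hpL hpp with h8 | ⟨b, hb⟩
    · exact Or.inl h8
    right
    refine h.inn_of_tr hL.1 hpL (hm L hL) hb ha ?_
    by_contra hcon
    push Not at hcon
    have h9 := hb.ne a ha.mem ha.sq hcon.1 hcon.2
    rcases h7 with h7 | h7
    · exact h9.1 h7
    · exact h9.2 h7

/-- (X) -/
theorem xx (h3 : R3 Om) (hs : s ∈ ZZ Om) (hx : x ∈ ZZ Om) (hne : x ≠ s) (hxs : x * s = s * x)
    (hf : Fr Om x s) (hf' : Fr Om s x) : ∃ r ∈ RR Om s, CP Om x (r * x * r⁻¹) := by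
  have hxx := h.zz_sq hx
  have hss := h.zz_sq hs
  have hs1 := h.zz_ne hs
  -- two elements
  have key : ∃ r1 ∈ RR Om s, ∃ r2 ∈ RR Om s, ∃ p1 p2, p1 = x * r1 * x⁻¹ * r1⁻¹ ∧ p2 = x * r2 * x⁻¹ * r2⁻¹ ∧
      p1 * x = x * p1 ∧ p2 * x = x * p2 ∧ r1 * p2 = p2 * r1 ∧ p1 ≠ 1 ∧ p2 ≠ 1 ∧ p1 * p2 ≠ 1 := by
    obtain ⟨K1, hK1⟩ := id hs
    obtain ⟨K2, hK2, hne1, hne2⟩ := exists_third (h3 s hs) K1 (cj x K1)
    -- one moved member
    have mv : ∀ K1 ∈ Ov Om s, ∀ K2 ∈ Ov Om s, K2 ≠ K1 → K2 ≠ cj x K1 → cj x K1 ≠ K1 →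
        ∃ r1 ∈ RR Om s, ∃ r2 ∈ RR Om s, ∃ p1 p2, p1 = x * r1 * x⁻¹ * r1⁻¹ ∧ p2 = x * r2 * x⁻¹ * r2⁻¹ ∧
          p1 * x = x * p1 ∧ p2 * x = x * p2 ∧ r1 * p2 = p2 * r1 ∧ p1 ≠ 1 ∧ p2 ≠ 1 ∧ p1 * p2 ≠ 1 := by
      intro K1 hK1 K2 hK2 hne1 hne2 hm
      obtain ⟨k, hk, hkk⟩ := h.exists_four hK1.1
      rw [hK1.2] at hkk
      have hnc := h.f_nc hK1 hxs hm hk hkk
      have hp1 : x * k * x⁻¹ * k⁻¹ ≠ 1 := fun h4 => hnc fun l _ => by rw [h4, one_mul, mul_one]
      have fin : ∀ p2, p2 ≠ 1 → (∀ l ∈ K1, p2 * l = l * p2) → (x * k * x⁻¹ * k⁻¹) * p2 ≠ 1 := by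
        intro p2 _ hc h4
        refine hnc fun l hl => ?_
        have h5 : x * k * x⁻¹ * k⁻¹ = p2⁻¹ := eq_inv_of_mul_eq_one_left h4
        rw [h5, inv_mul_eq_iff_eq_mul, ← mul_assoc, hc l hl, mul_inv_cancel_right]
      by_cases hm2 : cj x K2 = K2
      · rcases h.inn_or_tr hK2.1 hm2 hxx with h4 | ⟨a, ha⟩
        · exact absurd h4 (hf K2 hK2 hm2)
        refine ⟨k, le_RR hK1 hk, a, le_RR hK2 ha.mem, _, _, rfl, rfl, (h.swap_f hK1 hxx hxs hm hk).symm, ?_, ?_,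
          hp1, ?_, ?_⟩
        · rw [h.tr_com hK2 ha, hxs]
        · rw [h.tr_com hK2 ha, h.Ov_cen hK1 hk]
        · rw [h.tr_com hK2 ha]; exact hs1
        · rw [h.tr_com hK2 ha]
          exact fin s hs1 fun l hl => h.Ov_cen hK1 hl
      · obtain ⟨k', hk', hkk'⟩ := h.exists_four hK2.1
        rw [hK2.2] at hkk'
        have hnc' := h.f_nc hK2 hxs hm2 hk' hkk'
        have hcK1 : ∀ l ∈ K1, (x * k' * x⁻¹ * k'⁻¹) * l = l * (x * k' * x⁻¹ * k'⁻¹) := by
          intro l hl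
          have h4 := h.Ov_comm hK2 hK1 hne1 (inv_mem hk') hl
          have h5 : (x * k' * x⁻¹) * l = l * (x * k' * x⁻¹) := by
            refine h.Ov_comm (h.Ov_cj' hK2 hxs) hK1 (fun h6 => hne2 ?_) (conj_mem_cj hk') hl
            rw [← h6, ← cj_mul, hxx, cj_one]
          calc (x * k' * x⁻¹ * k'⁻¹) * l = (x * k' * x⁻¹) * (k'⁻¹ * l) := by group
            _ = ((x * k' * x⁻¹) * l) * k'⁻¹ := by rw [h4]; group
            _ = _ := by rw [h5]; group
        have hp2 : x * k' * x⁻¹ * k'⁻¹ ≠ 1 := fun h4 => hnc' fun l _ => by rw [h4, one_mul, mul_one]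
        exact ⟨k, le_RR hK1 hk, k', le_RR hK2 hk', _, _, rfl, rfl, (h.swap_f hK1 hxx hxs hm hk).symm,
          (h.swap_f hK2 hxx hxs hm2 hk').symm, (hcK1 k hk).symm, hp1, hp2, fin _ hp2 hcK1⟩
    by_cases hm : cj x K1 = K1
    swap
    · exact mv K1 hK1 K2 hK2 hne1 hne2 hm
    by_cases hm2 : cj x K2 = K2
    swap
    · refine mv K2 hK2 K1 hK1 hne1.symm (fun h4 => hne2 ?_) hm2
      rw [h4, ← cj_mul, hxx, cj_one]
    -- two fixed members
    rcases h.inn_or_tr hK1.1 hm hxx with h4 | ⟨a, ha⟩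
    · exact absurd h4 (hf K1 hK1 hm)
    rcases h.inn_or_tr hK2.1 hm2 hxx with h4 | ⟨a', ha'⟩
    · exact absurd h4 (hf K2 hK2 hm2)
    obtain ⟨b, hb, hbb, hb1, hb2⟩ := h.exists_anti hK1.1 ha.mem ha.sq
    obtain ⟨b', hb', hbb', hb1', hb2'⟩ := h.exists_anti hK2.1 ha'.mem ha'.sq
    have h5 := ha.com b hb hbb hb1 hb2
    have h6 := ha'.com b' hb' hbb' hb1' hb2'
    obtain ⟨c, hc⟩ : ∃ c, c = x * b * x⁻¹ * b⁻¹ := ⟨_, rfl⟩
    obtain ⟨c', hc'⟩ : ∃ c', c' = x * b' * x⁻¹ * b'⁻¹ := ⟨_, rfl⟩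
    rw [← hc] at h5
    rw [← hc'] at h6
    have hinv : ∀ K a c, K ∈ Ov Om s → Tr x K a → (c = a ∨ c = a⁻¹) →
        c ∈ K ∧ c * c = s ∧ x * c * x⁻¹ = s * c ∧ a * c = c * a := by
      intro K a c hK ha hc
      have h7 : a⁻¹ = s * a := by rw [h.inv_eq hK.1 ha.mem ha.sq, hK.2]
      have h8 : a * a = s := by rw [ha.sq, hK.2]
      rcases hc with rfl | rfl
      · exact ⟨ha.mem, h8, by rw [ha.inv, h7], rfl⟩
      · refine ⟨inv_mem ha.mem, by rw [← _root_.mul_inv_rev, h8, h.zz_inv hs], ?_, by rw [mul_inv_cancel, inv_mul_cancel]⟩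
        have h9 : x * a⁻¹ * x⁻¹ = (x * a * x⁻¹)⁻¹ := by group
        rw [h9, ha.inv, inv_inv, h7, ← mul_assoc, hss, one_mul]
    obtain ⟨c1, c2, c3, c4⟩ := hinv K1 a c hK1 ha h5
    obtain ⟨d1, d2, d3, d4⟩ := hinv K2 a' c' hK2 ha' h6
    have hbc : b * c' = c' * b := h.Ov_comm hK1 hK2 hne1.symm hb d1
    have h7 : x * (b * b') * x⁻¹ * (b * b')⁻¹ = c * c' := by
      rw [com_mul (by rw [← hc']; exact hbc), ← hc, ← hc']
    have hcx : (c * c') * x = x * (c * c') := by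
      have h8 : x * (c * c') * x⁻¹ = c * c' := by
        calc x * (c * c') * x⁻¹ = (x * c * x⁻¹) * (x * c' * x⁻¹) := by group
          _ = s * c * (s * c') := by rw [c3, d3]
          _ = s * (c * s) * c' := by group
          _ = s * (s * c) * c' := by rw [← h.Ov_cen hK1 c1]
          _ = (s * s) * (c * c') := by group
          _ = c * c' := by rw [hss, one_mul]
      rw [mul_inv_eq_iff_eq_mul] at h8
      exact h8.symm
    have hcc : ∀ e, (∀ l ∈ K1, e * l = l * e) → e * (c * c') ≠ 1 := by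
      intro e he h8
      refine h.four_nc hK1 c1 c2 fun l hl => ?_
      have h9 : c = e⁻¹ * c'⁻¹ := by
        calc c = e⁻¹ * (e * (c * c')) * c'⁻¹ := by group
          _ = e⁻¹ * c'⁻¹ := by rw [h8, mul_one]
      have h10 : c'⁻¹ * l = l * c'⁻¹ := h.Ov_comm hK2 hK1 hne1 (inv_mem d1) hl
      have h11 : e⁻¹ * l = l * e⁻¹ := by
        rw [inv_mul_eq_iff_eq_mul, ← mul_assoc, he l hl, mul_inv_cancel_right]
      rw [h9, mul_assoc, h10, ← mul_assoc, h11, mul_assoc]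
    refine ⟨a, le_RR hK1 ha.mem, b * b', mul_mem (le_RR hK1 hb) (le_RR hK2 hb'), _, _, rfl, h7.symm, ?_, hcx, ?_,
      ?_, ?_, ?_⟩
    · rw [h.tr_com hK1 ha, hxs]
    · have h8 : a * c' = c' * a := h.Ov_comm hK1 hK2 hne1.symm ha.mem d1
      rw [← mul_assoc, c4, mul_assoc, h8, ← mul_assoc]
    · rw [h.tr_com hK1 ha]; exact hs1
    · have := hcc 1 fun l _ => by rw [one_mul, mul_one]
      rwa [one_mul] at this
    · rw [h.tr_com hK1 ha]
      exact hcc s fun l hl => h.Ov_cen hK1 hl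
  obtain ⟨r1, hr1, r2, hr2, p1, p2, e1, e2, c1, c2, c3, n1, n2, n3⟩ := key
  obtain ⟨L, hL, hlike⟩ := h.like hT h3 hs hx hne hxs hf'
  have hp1 : p1 ∈ RR Om s := by rw [e1]; exact mul_mem (h.RR_cj' hr1 hxs) (inv_mem hr1)
  have hp2 : p2 ∈ RR Om s := by rw [e2]; exact mul_mem (h.RR_cj' hr2 hxs) (inv_mem hr2)
  have q1 : r1 * x * r1⁻¹ = x * p1 := by rw [conj_eq hxx, ← e1]
  have q2 : r2 * x * r2⁻¹ = x * p2 := by rw [conj_eq hxx, ← e2]
  have q3 : (r1 * r2) * x * (r1 * r2)⁻¹ = x * (p1 * p2) := by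
    rw [conj_eq hxx, com_mul (by rw [← e2]; exact c3), ← e1, ← e2]
  rcases hlike p1 hp1 c1 with h4 | h4
  · refine ⟨r1, hr1, ?_⟩
    rw [q1]
    exact h.cp_of_inn hT hx (by rw [← q1]; exact h.zz_cj hx r1) n1 hL h4
  rcases hlike p2 hp2 c2 with h5 | h5
  · refine ⟨r2, hr2, ?_⟩
    rw [q2]
    exact h.cp_of_inn hT hx (by rw [← q2]; exact h.zz_cj hx r2) n2 hL h5
  · refine ⟨r1 * r2, mul_mem hr1 hr2, ?_⟩
    rw [q3]
    refine h.cp_of_inn hT hx (by rw [← q3]; exact h.zz_cj hx _) n3 hL ?_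
    have h6 := h4.mul h5
    have h7 : p1 * s * (p2 * s) = p1 * p2 := by
      calc p1 * s * (p2 * s) = p1 * (s * p2) * s := by group
        _ = p1 * (p2 * s) * s := by rw [h.RR_cen hp2]
        _ = p1 * p2 * (s * s) := by group
        _ = p1 * p2 := by rw [hss, mul_one]
    rwa [h7] at h6

/-- **THEOREM T0'** -/
theorem cp_of_comm (h3 : R3 Om) (hs : s ∈ ZZ Om) (hx : x ∈ ZZ Om) (hne : x ≠ s) (hxs : x * s = s * x) :
    CP Om x s := by
  by_contra hc
  obtain ⟨hf, hf'⟩ := h.fr_of hT hx hs hne hc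
  have hxx := h.zz_sq hx
  obtain ⟨r, hr, h1⟩ := h.xx hT h3 hs hx hne hxs hf hf'
  obtain ⟨r', hr', h2⟩ := h.xx hT h3 hx hs hne.symm hxs.symm hf' hf
  obtain ⟨t, ht⟩ : ∃ t, t = x * r * x⁻¹ * r⁻¹ := ⟨_, rfl⟩
  have htR : t ∈ RR Om s := by rw [ht]; exact mul_mem (h.RR_cj' hr hxs) (inv_mem hr)
  rw [conj_eq hxx, ← ht] at h1
  have hxt : x * t ∈ ZZ Om := by
    rw [ht, ← conj_eq hxx]; exact h.zz_cj hx r
  have ht1 : t ≠ 1 := fun h3 => h1.1 (by rw [h3, mul_one])
  -- `t` centralises `R_x`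
  have htc : ∀ q ∈ RR Om x, t * q = q * t := by
    intro q hq
    have h4 := h.CP_RR h1 hq (h.RR_mem hxt)
    have h5 := h.RR_cen hq
    have h6 : x * (q * t) = x * (t * q) := by
      calc x * (q * t) = (x * q) * t := by group
        _ = q * (x * t) := by rw [h5]; group
        _ = x * (t * q) := by rw [h4]; group
    exact (mul_left_cancel h6).symm
  have h4 := h.RR_cj htR r'
  rw [← htc r' hr', mul_inv_cancel_right] at h4
  rcases h.RR_center htR (fun K hK k hk => (h.CP_RR h2 (le_RR hK hk) h4).symm) with h5 | h5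
  · exact ht1 h5
  · obtain ⟨L, hL⟩ := hx
    have h6 : Inn s L := Inn.of_comm fun l hl => by
      rw [← h5]; exact htc l (le_RR hL hl)
    exact hf' L hL h6.cj_eq h6

end NT2

end

end WR

end Cfsg.Agent.Cit.Nil.RG
end
end
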