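import Cfsg.Agent.Cit.Commute
import Cfsg.Agent.Cit.Nil.ROne.QEight
import Cfsg.Agent.KFacts.RgdFld.Two_m3
import Cfsg.Agent.FastGrp
import Cfsg.Agent.Prune
set_option linter.all false
prune_inst 0x7f00000000000000000000000000000000000000000000000000000000000000000000000000000000000000000000000000000000000000000000000000000000000000000000000000000000000000003fffffffffffffffffffffffffffbeffbdffffffff
open scoped Cfsg.Agent.FastGrp

-- part: Cit/Nil/RG/Defs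
section
/-!
# (6b), (C3), general `r`: the world (helper488)

`WR Om` : `Om` is an invariant set of quaternion groups of order 8, members with the same involution commute,
`(H3)`, members in a common 2-group commute.

* `Ov Om z` : the members over `z`; `RR Om z = ⟨Ov Om z⟩`; `SS 𝒦 = ⟨𝒦⟩`;
* `Inn g K` : `g` acts on `K` as an inner automorphism (possibly trivial);
* `CP Om u v` : C-pair; `TI Om u v` : type I; `Fr Om x z` : `x` is not inner on the members over `z` which it fixes.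
-/

set_option autoImplicit false
set_option linter.style.haveILetI false
set_option linter.unusedSectionVars false

namespace Cfsg.Agent.Cit.Nil.RG

open Subgroup Cfsg Cit QuaternionGroup
open Cfsg.Agent.Cit.Nil.ROne

variable {G : Type*} [Group G]

/-- see the head of the file -/
structure WR (Om : Set (Subgroup G)) : Prop where
  q8 : ∀ K ∈ Om, Nonempty (K ≃* QuaternionGroup 2)
  conj : ∀ K ∈ Om, ∀ g, cj g K ∈ Om
  comm : ∀ K ∈ Om, ∀ L ∈ Om, zz K = zz L → K ≠ L → ∀ a ∈ K, ∀ b ∈ L, a * b = b * a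
  h3 : ∀ K ∈ Om, ∀ L ∈ Om, ∀ y ∈ K, y * y = zz K → y * zz L = zz L * y → cj y L = L
  pg : ∀ K ∈ Om, ∀ L ∈ Om, ∀ T : Subgroup G, IsPGroup 2 T → K ≤ T → L ≤ T → K ≠ L →
    ∀ a ∈ K, ∀ b ∈ L, a * b = b * a

/-- the subgroup generated by a set of subgroups -/
def SS (𝒦 : Set (Subgroup G)) : Subgroup G := _root_.Subgroup.closure {g | ∃ K ∈ 𝒦, g ∈ K}

/-- the members over `z` -/
def Ov (Om : Set (Subgroup G)) (z : G) : Set (Subgroup G) := {K | K ∈ Om ∧ zz K = z}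

/-- the involutions of the members -/
def ZZ (Om : Set (Subgroup G)) : Set G := {z | ∃ K ∈ Om, zz K = z}

/-- `R_z` -/
def RR (Om : Set (Subgroup G)) (z : G) : Subgroup G := SS (Ov Om z)

/-- `g` acts on `K` as an inner automorphism -/
def Inn (g : G) (K : Subgroup G) : Prop := ∃ y ∈ K, ∀ k ∈ K, g * k * g⁻¹ = y * k * y⁻¹

/-- C-pair -/
def CP (Om : Set (Subgroup G)) (u v : G) : Prop :=
  u ≠ v ∧ ∀ K ∈ Ov Om u, ∀ L ∈ Ov Om v, ∀ a ∈ K, ∀ b ∈ L, a * b = b * a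

/-- `x` acts on the members over `z` as nontrivial inner automorphisms -/
def IN (Om : Set (Subgroup G)) (x z : G) : Prop :=
  ∀ K ∈ Ov Om z, ∃ y ∈ K, y * y = z ∧ ∀ k ∈ K, x * k * x⁻¹ = y * k * y⁻¹

/-- type I -/
def TI (Om : Set (Subgroup G)) (u v : G) : Prop := IN Om u v ∧ IN Om v u

/-- `x` is not inner on the members over `z` which it fixes -/
def Fr (Om : Set (Subgroup G)) (x z : G) : Prop := ∀ K ∈ Ov Om z, cj x K = K → ¬ Inn x K

theorem Inn.cj_eq {g : G} {K : Subgroup G} (h : Inn g K) : cj g K = K := by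
  obtain ⟨y, hy, h1⟩ := h
  ext k
  rw [mem_cj]
  constructor
  · intro hk
    have h2 := h1 _ hk
    have h3 : g * (g⁻¹ * k * g) * g⁻¹ = k := by group
    rw [h3] at h2
    rw [h2]
    exact mul_mem (mul_mem hy hk) (inv_mem hy)
  · intro hk
    have h2 : y⁻¹ * k * y ∈ K := mul_mem (mul_mem (inv_mem hy) hk) hy
    have h3 := h1 _ h2
    have h4 : y * (y⁻¹ * k * y) * y⁻¹ = k := by group
    rw [h4] at h3
    have h5 : g⁻¹ * k * g = y⁻¹ * k * y := by
      calc g⁻¹ * k * g = g⁻¹ * (g * (y⁻¹ * k * y) * g⁻¹) * g := by rw [h3]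
        _ = y⁻¹ * k * y := by group
    rw [h5]; exact h2

namespace WR

variable {Om : Set (Subgroup G)} {K L : Subgroup G} {z x y g u v a b k : G}

/-! ### A single member -/

section member

variable (h : WR Om)

include h

/-- the model isomorphism -/
noncomputable def e (hK : K ∈ Om) : K ≃* QEight.Q := (h.q8 K hK).some

theorem lift (hK : K ∈ Om) (p q : K) (hpq : h.e hK p = h.e hK q) : (p : G) = q :=
  congrArg Subtype.val ((h.e hK).injective hpq)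

theorem zz_spec (hK : K ∈ Om) : zz K ∈ K ∧ orderOf (zz K) = 2 := by
  apply Cit.zz_spec
  refine ⟨((h.e hK).symm (QuaternionGroup.a 2) : K), ((h.e hK).symm (QuaternionGroup.a 2)).2, ?_⟩
  rw [Subgroup.orderOf_coe, MulEquiv.orderOf_eq]
  refine orderOf_eq_prime ?_ ?_
  · rw [pow_two]; decide
  · decide

theorem zm (hK : K ∈ Om) : zz K ∈ K := (h.zz_spec hK).1

theorem zs (hK : K ∈ Om) : zz K * zz K = 1 := by
  rw [← pow_two, ← (h.zz_spec hK).2, pow_orderOf_eq_one]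

theorem zn (hK : K ∈ Om) : zz K ≠ 1 := by
  intro h1
  have := (h.zz_spec hK).2
  rw [h1, orderOf_one] at this
  omega

theorem e_z (hK : K ∈ Om) : h.e hK ⟨zz K, h.zm hK⟩ = QuaternionGroup.a 2 := by
  have h1 : ∀ x : QEight.Q, x * x = 1 → x ≠ 1 → x = QuaternionGroup.a 2 := by decide
  apply h1
  · rw [← map_mul, ← map_one (h.e hK)]
    exact congrArg (h.e hK) (Subtype.ext (h.zs hK))
  · intro h2
    rw [← map_one (h.e hK)] at h2
    exact h.zn hK (congrArg Subtype.val ((h.e hK).injective h2))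

theorem e_mul (hK : K ∈ Om) (hx : x ∈ K) (hy : y ∈ K) :
    h.e hK ⟨x * y, mul_mem hx hy⟩ = h.e hK ⟨x, hx⟩ * h.e hK ⟨y, hy⟩ := by
  rw [← map_mul]; rfl

theorem e_inv (hK : K ∈ Om) (hx : x ∈ K) : h.e hK ⟨x⁻¹, inv_mem hx⟩ = (h.e hK ⟨x, hx⟩)⁻¹ := by
  rw [← map_inv]; rfl

theorem e_one (hK : K ∈ Om) : h.e hK ⟨1, one_mem K⟩ = 1 := map_one (h.e hK)

/-- transport of an equation -/
theorem eq_of_e (hK : K ∈ Om) (hx : x ∈ K) (hy : y ∈ K) (he : h.e hK ⟨x, hx⟩ = h.e hK ⟨y, hy⟩) : x = y :=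
  congrArg Subtype.val ((h.e hK).injective he)

theorem e_eq (hK : K ∈ Om) (hx : x ∈ K) (hy : y ∈ K) : h.e hK ⟨x, hx⟩ = h.e hK ⟨y, hy⟩ ↔ x = y :=
  ⟨h.eq_of_e hK hx hy, fun hxy => by subst hxy; rfl⟩

theorem uniq (hK : K ∈ Om) (hx : x ∈ K) (hxx : x * x = 1) : x = 1 ∨ x = zz K := by
  have h2 : ∀ x : QEight.Q, x * x = 1 → x = 1 ∨ x = QuaternionGroup.a 2 := by decide
  rcases h2 (h.e hK ⟨x, hx⟩) (by
    rw [← h.e_mul hK hx hx, ← h.e_one hK, h.e_eq hK]; exact hxx) with h3 | h3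
  · left
    rw [← h.e_one hK, h.e_eq hK] at h3; exact h3
  · right
    rw [← h.e_z hK, h.e_eq hK] at h3; exact h3

theorem sq (hK : K ∈ Om) (hx : x ∈ K) : x * x = 1 ∨ x * x = zz K := by
  refine h.uniq hK (mul_mem hx hx) ?_
  have h2 : ∀ x : QEight.Q, x * x * (x * x) = 1 := by decide
  have h3 := h2 (h.e hK ⟨x, hx⟩)
  rw [← h.e_mul hK hx hx, ← h.e_mul hK (mul_mem hx hx) (mul_mem hx hx), ← h.e_one hK, h.e_eq hK] at h3
  exact h3

theorem sq_eq (hK : K ∈ Om) (hx : x ∈ K) (h1 : x ≠ 1) (h2 : x ≠ zz K) : x * x = zz K := by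
  rcases h.sq hK hx with h3 | h3
  · rcases h.uniq hK hx h3 with h4 | h4
    · exact absurd h4 h1
    · exact absurd h4 h2
  · exact h3

/-- `zz K` is central in `K` -/
theorem cen (hK : K ∈ Om) (hx : x ∈ K) : x * zz K = zz K * x := by
  have h3 : ∀ x : QEight.Q, x * QuaternionGroup.a 2 = QuaternionGroup.a 2 * x := by decide
  have h4 := h3 (h.e hK ⟨x, hx⟩)
  rw [← h.e_z hK, ← h.e_mul hK hx (h.zm hK), ← h.e_mul hK (h.zm hK) hx, h.e_eq hK] at h4
  exact h4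

theorem inv_eq (hK : K ∈ Om) (hx : x ∈ K) (hxx : x * x = zz K) : x⁻¹ = zz K * x := by
  rw [inv_eq_iff_mul_eq_one, ← h.cen hK hx, ← mul_assoc, hxx, h.zs hK]

/-- two elements of order four on different axes anticommute -/
theorem anti (hK : K ∈ Om) (ha : a ∈ K) (hb : b ∈ K) (haa : a * a = zz K) (hbb : b * b = zz K) (h1 : b ≠ a)
    (h2 : b ≠ a⁻¹) : b * a = zz K * (a * b) ∧ (a * b) * (a * b) = zz K := by
  have h3 : ∀ a b : QEight.Q, a * a = QuaternionGroup.a 2 → b * b = QuaternionGroup.a 2 → b ≠ a → b ≠ a⁻¹ →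
      b * a = QuaternionGroup.a 2 * (a * b) ∧ (a * b) * (a * b) = QuaternionGroup.a 2 := by decide +kernel
  have h4 := h3 (h.e hK ⟨a, ha⟩) (h.e hK ⟨b, hb⟩)
    (by rw [← h.e_mul hK ha ha, ← h.e_z hK, h.e_eq hK]; exact haa)
    (by rw [← h.e_mul hK hb hb, ← h.e_z hK, h.e_eq hK]; exact hbb)
    (by rw [Ne, h.e_eq hK]; exact h1)
    (by rw [← h.e_inv hK ha, Ne, h.e_eq hK]; exact h2)
  refine ⟨?_, ?_⟩
  · have h5 := h4.1
    rw [← h.e_mul hK hb ha, ← h.e_mul hK ha hb, ← h.e_z hK, ← h.e_mul hK (h.zm hK) (mul_mem ha hb), h.e_eq hK] at h5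
    exact h5
  · have h5 := h4.2
    rw [← h.e_mul hK ha hb, ← h.e_mul hK (mul_mem ha hb) (mul_mem ha hb), ← h.e_z hK, h.e_eq hK] at h5
    exact h5

/-- there is an element of order four -/
theorem exists_four (hK : K ∈ Om) : ∃ y ∈ K, y * y = zz K := by
  refine ⟨((h.e hK).symm (QuaternionGroup.a 1) : K), ((h.e hK).symm (QuaternionGroup.a 1)).2, ?_⟩
  refine h.eq_of_e hK (mul_mem ((h.e hK).symm (QuaternionGroup.a 1)).2 ((h.e hK).symm (QuaternionGroup.a 1)).2)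
    (h.zm hK) ?_
  rw [h.e_z hK, h.e_mul hK ((h.e hK).symm (QuaternionGroup.a 1)).2 ((h.e hK).symm (QuaternionGroup.a 1)).2,
    Subtype.coe_eta, (h.e hK).apply_symm_apply]
  decide

/-- there is an element of order four on another axis -/
theorem exists_anti (hK : K ∈ Om) (ha : a ∈ K) (haa : a * a = zz K) : ∃ b ∈ K, b * b = zz K ∧ b ≠ a ∧ b ≠ a⁻¹ := by
  have h3 : ∀ a : QEight.Q, a * a = QuaternionGroup.a 2 → ∃ b : QEight.Q, b * b = QuaternionGroup.a 2 ∧ b ≠ a ∧ b ≠ a⁻¹ := by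
    decide
  obtain ⟨b, hb1, hb2, hb3⟩ := h3 (h.e hK ⟨a, ha⟩) (by rw [← h.e_mul hK ha ha, ← h.e_z hK, h.e_eq hK]; exact haa)
  have hbe : h.e hK ⟨((h.e hK).symm b : K), ((h.e hK).symm b).2⟩ = b := by
    rw [Subtype.coe_eta, (h.e hK).apply_symm_apply]
  refine ⟨((h.e hK).symm b : K), ((h.e hK).symm b).2, ?_, ?_, ?_⟩
  · refine h.eq_of_e hK (mul_mem ((h.e hK).symm b).2 ((h.e hK).symm b).2) (h.zm hK) ?_
    rw [h.e_z hK, h.e_mul hK ((h.e hK).symm b).2 ((h.e hK).symm b).2, hbe, hb1]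
  · intro h4
    apply hb2
    rw [← hbe, h.e_eq hK]
    exact h4
  · intro h4
    apply hb3
    rw [← hbe, ← h.e_inv hK ha, h.e_eq hK]
    exact h4

/-- an element centralising `K` in `K` -/
theorem central (hK : K ∈ Om) (hx : x ∈ K) (hc : ∀ k ∈ K, x * k = k * x) : x = 1 ∨ x = zz K := by
  by_contra hcon
  push Not at hcon
  have h1 := h.sq_eq hK hx hcon.1 hcon.2
  obtain ⟨b, hb, hbb, h2, h3⟩ := h.exists_anti hK hx h1
  obtain ⟨h4, -⟩ := h.anti hK hx hb h1 hbb h2 h3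
  rw [← hc b hb] at h4
  have h5 : zz K * (x * b) = 1 * (x * b) := by rw [one_mul]; exact h4.symm
  exact h.zn hK (mul_right_cancel h5)

/-- commuting elements of order four -/
theorem eq_of_comm (hK : K ∈ Om) (ha : a ∈ K) (hb : b ∈ K) (haa : a * a = zz K) (hbb : b * b = zz K)
    (hc : a * b = b * a) : b = a ∨ b = a⁻¹ := by
  by_contra hcon
  push Not at hcon
  obtain ⟨h4, -⟩ := h.anti hK ha hb haa hbb hcon.1 hcon.2
  rw [← hc] at h4
  have h5 : zz K * (a * b) = 1 * (a * b) := by rw [one_mul]; exact h4.symm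
  exact h.zn hK (mul_right_cancel h5)

theorem ne_inv (hK : K ∈ Om) (haa : a * a = zz K) : a ≠ a⁻¹ := by
  intro h1
  have h2 : a * a = 1 := by nth_rw 2 [h1]; rw [mul_inv_cancel]
  rw [haa] at h2
  exact h.zn hK h2

/-- conjugation inside `K` -/
theorem conj_cases (hK : K ∈ Om) (hy : y ∈ K) (hk : k ∈ K) : y * k * y⁻¹ = k ∨ y * k * y⁻¹ = zz K * k := by
  by_cases hc : y * k = k * y
  · left; rw [hc, mul_inv_cancel_right]
  right
  have hy1 : y ≠ 1 := by rintro rfl; exact hc (by rw [one_mul, mul_one])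
  have hy2 : y ≠ zz K := by rintro rfl; exact hc (h.cen hK hk).symm
  have hk1 : k ≠ 1 := by rintro rfl; exact hc (by rw [one_mul, mul_one])
  have hk2 : k ≠ zz K := by rintro rfl; exact hc (h.cen hK hy)
  have hyy := h.sq_eq hK hy hy1 hy2
  have hkk := h.sq_eq hK hk hk1 hk2
  obtain ⟨h4, -⟩ := h.anti hK hk hy hkk hyy (by rintro rfl; exact hc rfl) (by
    intro h5; apply hc; rw [h5, inv_mul_cancel, mul_inv_cancel])
  rw [h4, mul_assoc, mul_assoc, mul_inv_cancel, mul_one]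

theorem card (hK : K ∈ Om) : Nat.card K = 8 := by
  rw [Nat.card_congr (h.e hK).toEquiv, Nat.card_eq_fintype_card]
  decide

theorem two (hK : K ∈ Om) : IsPGroup 2 K := by
  haveI : Fact (Nat.Prime 2) := ⟨Nat.prime_two⟩
  exact IsPGroup.of_card (n := 3) (h.card hK)

theorem zcj (hK : K ∈ Om) (g : G) : zz (cj g K) = g * zz K * g⁻¹ := by
  symm
  rcases h.uniq (h.conj K hK g) (conj_mem_cj (g := g) (h.zm hK)) (by
    rw [show g * zz K * g⁻¹ * (g * zz K * g⁻¹) = g * (zz K * zz K) * g⁻¹ by group, h.zs hK]; group) with h1 | h1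
  · rw [conj_eq_one_iff] at h1
    exact absurd h1 (h.zn hK)
  · exact h1

end member

end WR

end Cfsg.Agent.Cit.Nil.RG
end

-- part: Cit/Nil/RG/Act
section
/-!
# (6b), general `r`: the action on a member, the group `R_z`, the types of commuting pairs (helper488)
-/

set_option autoImplicit false
set_option linter.style.haveILetI false
set_option linter.unusedSectionVars false

namespace Cfsg.Agent.Cit.Nil.RG

open Subgroup Cfsg Cit QuaternionGroup
open Cfsg.Agent.Cit.Nil.ROne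

variable {G : Type*} [Group G]

/-- `g` acts on `K` as a transposition inverting `a` -/
structure Tr (g : G) (K : Subgroup G) (a : G) : Prop where
  mem : a ∈ K
  sq : a * a = zz K
  inv : g * a * g⁻¹ = a⁻¹
  ne : ∀ b ∈ K, b * b = zz K → b ≠ a → b ≠ a⁻¹ → g * b * g⁻¹ ≠ b ∧ g * b * g⁻¹ ≠ b⁻¹
  com : ∀ b ∈ K, b * b = zz K → b ≠ a → b ≠ a⁻¹ → g * b * g⁻¹ * b⁻¹ = a ∨ g * b * g⁻¹ * b⁻¹ = a⁻¹

theorem conj_mem_of_cj {K : Subgroup G} {g x : G} (hg : cj g K = K) (hx : x ∈ K) : g * x * g⁻¹ ∈ K := by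
  have h1 := conj_mem_cj (g := g) hx
  rwa [hg] at h1

theorem cj_inv_eq {K : Subgroup G} {g : G} (hg : cj g K = K) : cj g⁻¹ K = K := by
  rw [← cj_inj (g := g), cj_cj_inv, hg]

theorem Inn.mul {g g' : G} {K : Subgroup G} (h : Inn g K) (h' : Inn g' K) : Inn (g * g') K := by
  obtain ⟨y, hy, h1⟩ := h
  obtain ⟨y', hy', h2⟩ := h'
  refine ⟨y * y', mul_mem hy hy', fun k hk => ?_⟩
  rw [show g * g' * k * (g * g')⁻¹ = g * (g' * k * g'⁻¹) * g⁻¹ by group, h2 k hk,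
    h1 _ (mul_mem (mul_mem hy' hk) (inv_mem hy'))]
  group

theorem Inn.of_comm {g : G} {K : Subgroup G} (h : ∀ k ∈ K, g * k = k * g) : Inn g K :=
  ⟨1, one_mem K, fun k hk => by rw [h k hk]; group⟩

theorem Inn.of_mem {g : G} {K : Subgroup G} (h : g ∈ K) : Inn g K := ⟨g, h, fun _ _ => rfl⟩

theorem Inn.inv {g : G} {K : Subgroup G} (h : Inn g K) : Inn g⁻¹ K := by
  have hc := h.cj_eq
  obtain ⟨y, hy, h1⟩ := h
  refine ⟨y⁻¹, inv_mem hy, fun k hk => ?_⟩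
  have h2 : y⁻¹ * k * y ∈ K := mul_mem (mul_mem (inv_mem hy) hk) hy
  have h3 := h1 _ h2
  have h4 : y * (y⁻¹ * k * y) * y⁻¹ = k := by group
  rw [h4] at h3
  calc g⁻¹ * k * g⁻¹⁻¹ = g⁻¹ * (g * (y⁻¹ * k * y) * g⁻¹) * g := by rw [h3, inv_inv]
    _ = y⁻¹ * k * y⁻¹⁻¹ := by group

namespace QE

open QEight

set_option maxRecDepth 100000 in
theorem mod_aux : ∀ p q : Q, Ok p q → (∀ x, F p q x = x ∨ F p q x = QuaternionGroup.a 2 * x) →
    ∃ y : Q, ∀ x, F p q x = y * x * y⁻¹ := by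
  decide +kernel

set_option maxRecDepth 100000 in
theorem fix_aux : ∀ p q : Q, Ok p q → ∀ y : Q, y * y = QuaternionGroup.a 2 → F p q y = y →
    (∀ x, F p q (F p q x) = x) → ∃ y : Q, ∀ x, F p q x = y * x * y⁻¹ := by
  decide +kernel

theorem mod (α : MulAut Q) (h : ∀ x, α x = x ∨ α x = QuaternionGroup.a 2 * x) :
    ∃ y : Q, ∀ x, α x = y * x * y⁻¹ := by
  have h1 := mod_aux _ _ (aut_ok α)
  rw [← funF α] at h1
  exact h1 h

theorem fix (α : MulAut Q) (y : Q) (hy : y * y = QuaternionGroup.a 2) (hf : α y = y) (h : ∀ x, α (α x) = x) :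
    ∃ y : Q, ∀ x, α x = y * x * y⁻¹ := by
  have h1 := fix_aux _ _ (aut_ok α) y hy
  rw [← funF α] at h1
  exact h1 hf h

theorem third : ∀ y b c : Q, y * y = QuaternionGroup.a 2 → b * b = QuaternionGroup.a 2 → c * c = QuaternionGroup.a 2 →
    b ≠ y → b ≠ y⁻¹ → c ≠ y → c ≠ y⁻¹ → c ≠ b → c ≠ b⁻¹ → c * b⁻¹ = y ∨ c * b⁻¹ = y⁻¹ := by
  decide +kernel

end QE

namespace WR

variable {Om : Set (Subgroup G)} {K L : Subgroup G} {z x y g g' u v a a' b k t : G}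

section act

variable (h : WR Om)

/-- conjugation by `g` on `K` -/
def actK (hg : cj g K = K) : MulAut K where
  toFun x := ⟨g * x * g⁻¹, conj_mem_of_cj hg x.2⟩
  invFun x := ⟨g⁻¹ * x * g, by
    have h1 := conj_mem_of_cj (cj_inv_eq hg) x.2
    rwa [inv_inv] at h1⟩
  left_inv x := Subtype.ext (by change g⁻¹ * (g * x * g⁻¹) * g = x; group)
  right_inv x := Subtype.ext (by change g * (g⁻¹ * x * g) * g⁻¹ = x; group)
  map_mul' x y := Subtype.ext (by change g * (x * y) * g⁻¹ = (g * x * g⁻¹) * (g * y * g⁻¹); group)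

/-- conjugation by `g` on the model of `K` -/
noncomputable def rho (hK : K ∈ Om) (hg : cj g K = K) : MulAut QEight.Q :=
  ((h.e hK).symm.trans (actK hg)).trans (h.e hK)

theorem rho_e (hK : K ∈ Om) (hg : cj g K = K) (hx : x ∈ K) :
    h.rho hK hg (h.e hK ⟨x, hx⟩) = h.e hK ⟨g * x * g⁻¹, conj_mem_of_cj hg hx⟩ := by
  change h.e hK (actK hg ((h.e hK).symm (h.e hK ⟨x, hx⟩))) = _
  rw [(h.e hK).symm_apply_apply]
  rfl

theorem exists_e (hK : K ∈ Om) (p : QEight.Q) : ∃ x, ∃ hx : x ∈ K, h.e hK ⟨x, hx⟩ = p :=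
  ⟨((h.e hK).symm p : K), ((h.e hK).symm p).2, (h.e hK).apply_symm_apply p⟩

include h

theorem inn_of_rho (hK : K ∈ Om) (hg : cj g K = K) (hy : ∃ y : QEight.Q, ∀ x, h.rho hK hg x = y * x * y⁻¹) : Inn g K := by
  obtain ⟨q, hq⟩ := hy
  obtain ⟨y, hy, rfl⟩ := h.exists_e hK q
  refine ⟨y, hy, fun k hk => ?_⟩
  have h1 := hq (h.e hK ⟨k, hk⟩)
  rw [h.rho_e, ← h.e_inv hK hy, ← h.e_mul hK hy hk, ← h.e_mul hK (mul_mem hy hk) (inv_mem hy), h.e_eq hK] at h1
  exact h1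

/-- an automorphism trivial modulo the centre is inner -/
theorem inn_of_mod (hK : K ∈ Om) (hg : cj g K = K) (hm : ∀ k ∈ K, g * k * g⁻¹ = k ∨ g * k * g⁻¹ = zz K * k) : Inn g K := by
  refine h.inn_of_rho hK hg (QE.mod _ fun p => ?_)
  obtain ⟨k, hk, rfl⟩ := h.exists_e hK p
  rw [h.rho_e, ← h.e_z hK, ← h.e_mul hK (h.zm hK) hk, h.e_eq hK, h.e_eq hK]
  exact hm k hk

theorem rho_sq (hK : K ∈ Om) (hg : cj g K = K) (hs : ∀ k ∈ K, g * g * k = k * (g * g)) (p : QEight.Q) :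
    h.rho hK hg (h.rho hK hg p) = p := by
  obtain ⟨k, hk, rfl⟩ := h.exists_e hK p
  rw [h.rho_e, h.rho_e, h.e_eq hK]
  calc g * (g * k * g⁻¹) * g⁻¹ = (g * g * k) * (g * g)⁻¹ := by group
    _ = k := by rw [hs k hk, mul_inv_cancel_right]

/-- an inner automorphism fixes an element of order four -/
theorem exists_fix (hK : K ∈ Om) (hi : Inn g K) : ∃ y ∈ K, y * y = zz K ∧ g * y * g⁻¹ = y := by
  obtain ⟨y, hy, h1⟩ := hi
  by_cases hc : ∀ k ∈ K, y * k = k * y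
  · obtain ⟨w, hw, hww⟩ := h.exists_four hK
    exact ⟨w, hw, hww, by rw [h1 w hw, hc w hw, mul_inv_cancel_right]⟩
  · have hy1 : y ≠ 1 := by rintro rfl; exact hc fun k _ => by rw [one_mul, mul_one]
    have hy2 : y ≠ zz K := by rintro rfl; exact hc fun k hk => (h.cen hK hk).symm
    exact ⟨y, hy, h.sq_eq hK hy hy1 hy2, by rw [h1 y hy, mul_inv_cancel_right]⟩

/-- automorphisms of order two -/
theorem inn_or_tr' (hK : K ∈ Om) (hg : cj g K = K) (hs : ∀ k ∈ K, g * g * k = k * (g * g)) :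
    Inn g K ∨ ∃ a, Tr g K a := by
  rcases QEight.invol (h.rho hK hg) (h.rho_sq hK hg hs) with h1 | h1 | h1
  · left
    exact h.inn_of_rho hK hg ⟨1, fun x => by rw [h1 x]; group⟩
  · left
    obtain ⟨y, -, h2⟩ := h1
    exact h.inn_of_rho hK hg ⟨y, h2⟩
  · right
    obtain ⟨q, hq1, hq2, hq3⟩ := h1
    obtain ⟨a, ha, rfl⟩ := h.exists_e hK q
    have haa : a * a = zz K := by
      rw [← h.e_mul hK ha ha, ← h.e_z hK, h.e_eq hK] at hq1
      exact hq1
    have hinv : g * a * g⁻¹ = a⁻¹ := by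
      rw [h.rho_e, ← h.e_inv hK ha, h.e_eq hK] at hq2
      exact hq2
    have hne : ∀ b ∈ K, b * b = zz K → b ≠ a → b ≠ a⁻¹ → g * b * g⁻¹ ≠ b ∧ g * b * g⁻¹ ≠ b⁻¹ := by
      intro b hb hbb h1 h2
      have h3 := hq3 (h.e hK ⟨b, hb⟩) (by rw [← h.e_mul hK hb hb, ← h.e_z hK, h.e_eq hK]; exact hbb)
        (by rw [Ne, h.e_eq hK]; exact h1) (by rw [← h.e_inv hK ha, Ne, h.e_eq hK]; exact h2)
      rw [h.rho_e, ← h.e_inv hK hb, Ne, Ne, h.e_eq hK, h.e_eq hK] at h3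
      exact h3
    refine ⟨a, ha, haa, hinv, hne, ?_⟩
    intro b hb hbb h1 h2
    obtain ⟨h3, h4⟩ := hne b hb hbb h1 h2
    have hc : g * b * g⁻¹ ∈ K := conj_mem_of_cj hg hb
    have hcc : g * b * g⁻¹ * (g * b * g⁻¹) = zz K := by
      have hz : g * zz K * g⁻¹ = zz K := by rw [← h.zcj hK, hg]
      rw [show g * b * g⁻¹ * (g * b * g⁻¹) = g * (b * b) * g⁻¹ by group, hbb, hz]
    have h5 : g * b * g⁻¹ ≠ a := by
      intro h6
      apply h2
      have h7 : b = g⁻¹ * a * g := by rw [← h6]; group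
      have h8 : g * a⁻¹ * g⁻¹ = a := by
        have h9 : g * a⁻¹ * g⁻¹ = (g * a * g⁻¹)⁻¹ := by group
        rw [h9, hinv, inv_inv]
      rw [h7]
      calc g⁻¹ * a * g = g⁻¹ * (g * a⁻¹ * g⁻¹) * g := by rw [h8]
        _ = a⁻¹ := by group
    have h6 : g * b * g⁻¹ ≠ a⁻¹ := by
      intro h6
      apply h1
      calc b = g⁻¹ * (g * b * g⁻¹) * g := by group
        _ = g⁻¹ * (g * a * g⁻¹) * g := by rw [h6, hinv]
        _ = a := by group
    have h7 := QE.third (h.e hK ⟨a, ha⟩) (h.e hK ⟨b, hb⟩) (h.e hK ⟨_, hc⟩)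
      (by rw [← h.e_mul hK ha ha, ← h.e_z hK, h.e_eq hK]; exact haa)
      (by rw [← h.e_mul hK hb hb, ← h.e_z hK, h.e_eq hK]; exact hbb)
      (by rw [← h.e_mul hK hc hc, ← h.e_z hK, h.e_eq hK]; exact hcc)
      (by rw [Ne, h.e_eq hK]; exact h1) (by rw [← h.e_inv hK ha, Ne, h.e_eq hK]; exact h2)
      (by rw [Ne, h.e_eq hK]; exact h5) (by rw [← h.e_inv hK ha, Ne, h.e_eq hK]; exact h6)
      (by rw [Ne, h.e_eq hK]; exact h3) (by rw [← h.e_inv hK hb, Ne, h.e_eq hK]; exact h4)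
    rw [← h.e_inv hK hb, ← h.e_mul hK hc (inv_mem hb), ← h.e_inv hK ha, h.e_eq hK, h.e_eq hK] at h7
    exact h7

theorem inn_or_tr (hK : K ∈ Om) (hg : cj g K = K) (hs : g * g = 1) : Inn g K ∨ ∃ a, Tr g K a :=
  h.inn_or_tr' hK hg fun k _ => by rw [hs, one_mul, mul_one]


/-- a transposition is not inner -/
theorem not_inn (hK : K ∈ Om) (ht : Tr g K a) : ¬ Inn g K := by
  intro hi
  obtain ⟨y, hy, hyy, h1⟩ := h.exists_fix hK hi
  by_cases h2 : y = a
  · subst h2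
    rw [ht.inv] at h1
    exact h.ne_inv hK hyy h1.symm
  by_cases h3 : y = a⁻¹
  · subst h3
    have h4 : g * a⁻¹ * g⁻¹ = a := by
      have h5 : g * a⁻¹ * g⁻¹ = (g * a * g⁻¹)⁻¹ := by group
      rw [h5, ht.inv, inv_inv]
    rw [h4] at h1
    exact h.ne_inv hK ht.sq h1
  exact (ht.ne y hy hyy h2 h3).1 h1

/-- the square of an element normalising `K` is inner (if it is of order two) -/
theorem inn_sq (hK : K ∈ Om) (hg : cj g K = K) (hs : (g * g) * (g * g) = 1) : Inn (g * g) K := by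
  have hgg : cj (g * g) K = K := by rw [cj_mul, hg, hg]
  rcases h.inn_or_tr hK hgg hs with h1 | ⟨a, ha⟩
  · exact h1
  exfalso
  refine QEight.sq_trn (h.rho hK hg) (h.e hK ⟨a, ha.mem⟩) ⟨?_, ?_, ?_⟩
  · rw [← h.e_mul hK ha.mem ha.mem, ← h.e_z hK, h.e_eq hK]; exact ha.sq
  · change h.rho hK hg (h.rho hK hg _) = _
    rw [h.rho_e, h.rho_e, ← h.e_inv hK ha.mem, h.e_eq hK, ← ha.inv]
    group
  · intro p hp h1 h2
    obtain ⟨b, hb, rfl⟩ := h.exists_e hK p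
    change h.rho hK hg (h.rho hK hg _) ≠ _ ∧ h.rho hK hg (h.rho hK hg _) ≠ _
    have h3 := ha.ne b hb (by rw [← h.e_mul hK hb hb, ← h.e_z hK, h.e_eq hK] at hp; exact hp)
      (by rw [Ne, h.e_eq hK] at h1; exact h1) (by rw [← h.e_inv hK ha.mem, Ne, h.e_eq hK] at h2; exact h2)
    rw [h.rho_e, h.rho_e, ← h.e_inv hK hb, Ne, Ne, h.e_eq hK, h.e_eq hK,
      show g * (g * b * g⁻¹) * g⁻¹ = g * g * b * (g * g)⁻¹ by group]
    exact h3

/-- two transpositions with the same axis -/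
theorem inn_of_tr (hK : K ∈ Om) (hg : cj g K = K) (hg' : cj g' K = K) (ht : Tr g K a) (ht' : Tr g' K a')
    (haa : a' = a ∨ a' = a⁻¹) : Inn (g * g') K := by
  have hz : g * zz K * g⁻¹ = zz K := by rw [← h.zcj hK, hg]
  have hz' : g' * zz K * g'⁻¹ = zz K := by rw [← h.zcj hK, hg']
  -- `g'` inverts `a`
  have h1 : g' * a * g'⁻¹ = a⁻¹ := by
    rcases haa with rfl | rfl
    · exact ht'.inv
    · have h2 := ht'.inv
      have h3 : g' * a * g'⁻¹ = (g' * a⁻¹ * g'⁻¹)⁻¹ := by group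
      rw [h3, h2, inv_inv]
  have hai : g * a⁻¹ * g⁻¹ = a := by
    have h5 : g * a⁻¹ * g⁻¹ = (g * a * g⁻¹)⁻¹ := by group
    rw [h5, ht.inv, inv_inv]
  have hcj : ∀ k, g * g' * k * (g * g')⁻¹ = g * (g' * k * g'⁻¹) * g⁻¹ := fun k => by group
  refine h.inn_of_mod hK (by rw [cj_mul, hg', hg]) fun k hk => ?_
  by_cases k1 : k = 1
  · subst k1; left; group
  by_cases k2 : k = zz K
  · subst k2; left; rw [hcj, hz', hz]
  have hkk := h.sq_eq hK hk k1 k2
  by_cases k3 : k = a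
  · subst k3; left; rw [hcj, h1, hai]
  by_cases k4 : k = a⁻¹
  · subst k4; left
    rw [hcj]
    have h6 : g' * a⁻¹ * g'⁻¹ = a := by
      have h5 : g' * a⁻¹ * g'⁻¹ = (g' * a * g'⁻¹)⁻¹ := by group
      rw [h5, h1, inv_inv]
    rw [h6, ht.inv]
  -- `g' k g'⁻¹ = c k`, `c = a^{±1}`
  have h7 : g' * k * g'⁻¹ * k⁻¹ = a ∨ g' * k * g'⁻¹ * k⁻¹ = a⁻¹ := by
    rcases haa with rfl | rfl
    · exact ht'.com k hk hkk k3 k4
    · rcases ht'.com k hk hkk k4 (by rwa [inv_inv]) with h8 | h8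
      · exact Or.inr h8
      · exact Or.inl (by rwa [inv_inv] at h8)
  have h8 := ht.com k hk hkk k3 k4
  obtain ⟨c, hc⟩ : ∃ c, c = g' * k * g'⁻¹ * k⁻¹ := ⟨_, rfl⟩
  obtain ⟨d, hd⟩ : ∃ d, d = g * k * g⁻¹ * k⁻¹ := ⟨_, rfl⟩
  rw [← hc] at h7
  rw [← hd] at h8
  have h9 : g' * k * g'⁻¹ = c * k := by rw [hc]; group
  have h10 : g * k * g⁻¹ = d * k := by rw [hd]; group
  have h11 : g * c * g⁻¹ = c⁻¹ := by
    rcases h7 with h7 | h7
    · rw [h7, ht.inv]
    · rw [h7, hai, inv_inv]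
  rw [hcj, h9, show g * (c * k) * g⁻¹ = (g * c * g⁻¹) * (g * k * g⁻¹) by group, h11, h10, ← mul_assoc]
  have hia : a⁻¹ * a⁻¹ = zz K := by
    rw [← _root_.mul_inv_rev, ht.sq]
    exact inv_eq_of_mul_eq_one_right (h.zs hK)
  rcases h7 with h7 | h7 <;> rcases h8 with h8 | h8 <;> rw [h7, h8]
  · left; rw [inv_mul_cancel, one_mul]
  · right; rw [hia]
  · right; rw [inv_inv, ht.sq]
  · left; rw [inv_inv, mul_inv_cancel, one_mul]

end act

end WR

end Cfsg.Agent.Cit.Nil.RG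
end

-- part: Cit/Nil/RG/Tri
section
/-!
# (6b), general `r`: the group `R_z` and the trichotomy (helper488)

* `SS_comm`, `SS_split`, `SS_center` : the central product of a set of members over `z`;
* `RR_conj`, `RR_sq`, `RR_inn`;
* `tri` : two commuting elements of `ZZ Om` : C-pair, type I, or free on each other;
* `WR.of_hyp` : from `Hyp Om`.
-/

set_option autoImplicit false
set_option linter.style.haveILetI false
set_option linter.unusedSectionVars false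

namespace Cfsg.Agent.Cit.Nil.RG

open Subgroup Cfsg Cit QuaternionGroup
open Cfsg.Agent.Cit.Nil.ROne

variable {G : Type*} [Group G]

section SS

variable {𝒦 𝒦' : Set (Subgroup G)} {K L : Subgroup G} {x y z g u v k w : G}

theorem mem_SS_of (hK : K ∈ 𝒦) (hx : x ∈ K) : x ∈ SS 𝒦 := subset_closure ⟨K, hK, hx⟩

theorem le_SS (hK : K ∈ 𝒦) : K ≤ SS 𝒦 := fun _ hx => mem_SS_of hK hx

theorem SS_le (h : ∀ K ∈ 𝒦, K ≤ L) : SS 𝒦 ≤ L := by
  rw [SS, closure_le]
  rintro g ⟨K, hK, hg⟩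
  exact h K hK hg

theorem SS_mono (h : 𝒦 ⊆ 𝒦') : SS 𝒦 ≤ SS 𝒦' := SS_le fun _ hK => le_SS (h hK)

theorem SS_empty : SS (∅ : Set (Subgroup G)) = ⊥ := by
  rw [eq_bot_iff]
  exact SS_le fun K hK => absurd hK (Set.notMem_empty K)

/-- an element commuting with the members commutes with `SS 𝒦` -/
theorem SS_comm (h : ∀ K ∈ 𝒦, ∀ k ∈ K, x * k = k * x) (hg : g ∈ SS 𝒦) : x * g = g * x := by
  have h1 : SS 𝒦 ≤ centralizer {x} := SS_le fun K hK k hk => by
    rw [mem_centralizer_singleton_iff]; exact (h K hK k hk).symm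
  exact (mem_centralizer_singleton_iff.1 (h1 hg)).symm

theorem SS_comm' (h : ∀ K ∈ 𝒦, ∀ L ∈ 𝒦', ∀ k ∈ K, ∀ l ∈ L, k * l = l * k) (hx : x ∈ SS 𝒦) (hg : g ∈ SS 𝒦') :
    x * g = g * x := by
  refine SS_comm (fun L hL l hl => ?_) hg
  exact (SS_comm (x := l) (fun K hK k hk => (h K hK L hL k hk l hl).symm) hx).symm

/-- conjugation of `SS 𝒦` -/
theorem SS_cj_le (h : ∀ K ∈ 𝒦, cj g K ∈ 𝒦') (hx : x ∈ SS 𝒦) : g * x * g⁻¹ ∈ SS 𝒦' := by
  have h1 : SS 𝒦 ≤ (SS 𝒦').comap (MulAut.conj g).toMonoidHom := SS_le fun K hK k hk =>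
    mem_SS_of (h K hK) (conj_mem_cj hk)
  exact h1 hx

end SS

theorem CP.symm {Om : Set (Subgroup G)} {u v : G} (hc : CP Om u v) : CP Om v u :=
  ⟨hc.1.symm, fun K hK L hL a ha b hb => (hc.2 L hL K hK b hb a ha).symm⟩

theorem TI.symm {Om : Set (Subgroup G)} {u v : G} (hc : TI Om u v) : TI Om v u := ⟨hc.2, hc.1⟩

namespace WR

variable {Om : Set (Subgroup G)} {𝒦 𝒦' : Set (Subgroup G)} {K L M : Subgroup G} {z x y g g' u v w a a' b k r s t : G}

section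

variable (h : WR Om)

include h

theorem zz_ne (hz : z ∈ ZZ Om) : z ≠ 1 := by
  obtain ⟨K, hK, rfl⟩ := hz; exact h.zn hK

theorem zz_sq (hz : z ∈ ZZ Om) : z * z = 1 := by
  obtain ⟨K, hK, rfl⟩ := hz; exact h.zs hK

theorem zz_inv (hz : z ∈ ZZ Om) : z⁻¹ = z := inv_eq_of_mul_eq_one_right (h.zz_sq hz)

theorem zz_cj (hz : z ∈ ZZ Om) (g : G) : g * z * g⁻¹ ∈ ZZ Om := by
  obtain ⟨K, hK, rfl⟩ := hz
  exact ⟨cj g K, h.conj K hK g, h.zcj hK g⟩

theorem Ov_cj (hK : K ∈ Ov Om z) (g : G) : cj g K ∈ Ov Om (g * z * g⁻¹) :=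
  ⟨h.conj K hK.1 g, by rw [h.zcj hK.1, hK.2]⟩

theorem Ov_cj' (hK : K ∈ Ov Om z) (hg : g * z = z * g) : cj g K ∈ Ov Om z := by
  have h1 := h.Ov_cj hK g
  rwa [hg, mul_inv_cancel_right] at h1

omit h in
theorem Ov_zz (hK : K ∈ Ov Om z) : z ∈ ZZ Om := ⟨K, hK⟩

theorem Ov_mem (hK : K ∈ Ov Om z) : z ∈ K := by
  have := h.zm hK.1; rwa [hK.2] at this

theorem Ov_cen (hK : K ∈ Ov Om z) (hk : k ∈ K) : z * k = k * z := by
  have := h.cen hK.1 hk; rw [hK.2] at this; exact this.symm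

theorem Ov_comm (hK : K ∈ Ov Om z) (hL : L ∈ Ov Om z) (hne : K ≠ L) (ha : a ∈ K) (hb : b ∈ L) : a * b = b * a :=
  h.comm K hK.1 L hL.1 (hK.2.trans hL.2.symm) hne a ha b hb

/-- commuting with `K` modulo the other members -/
theorem Ov_central (hK : K ∈ Ov Om z) (hx : x ∈ K) (hc : ∀ k ∈ K, x * k = k * x) : x = 1 ∨ x = z := by
  have := h.central hK.1 hx hc; rwa [hK.2] at this

theorem Ov_ne (ht : K ∈ Ov Om z) (hL : L ∈ Ov Om t) (hne : z ≠ t) : K ≠ L := by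
  rintro rfl
  exact hne (ht.2.symm.trans hL.2)

theorem zz_SS (hK : K ∈ 𝒦) (h𝒦 : 𝒦 ⊆ Ov Om z) : z ∈ SS 𝒦 := mem_SS_of hK (h.Ov_mem (h𝒦 hK))

theorem SS_cen (h𝒦 : 𝒦 ⊆ Ov Om z) (hx : x ∈ SS 𝒦) : z * x = x * z :=
  SS_comm (fun K hK k hk => h.Ov_cen (h𝒦 hK) hk) hx

/-- splitting off a member -/
theorem SS_split (h𝒦 : 𝒦 ⊆ Ov Om z) (hK : K ∈ 𝒦) (hv : v ∈ SS 𝒦) :
    ∃ k ∈ K, ∃ w ∈ SS (𝒦 \ {K}), v = k * w ∧ ∀ l ∈ K, w * l = l * w := by
  have hcom : ∀ w ∈ SS (𝒦 \ {K}), ∀ l ∈ K, w * l = l * w := by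
    intro w hw l hl
    refine (SS_comm (x := l) (fun L hL k hk => ?_) hw).symm
    exact h.Ov_comm (h𝒦 hK) (h𝒦 hL.1) (fun h1 => hL.2 h1.symm) hl hk
  have h1 : ∃ k ∈ K, ∃ w ∈ SS (𝒦 \ {K}), v = k * w := by
    refine closure_induction (p := fun v _ => ∃ k ∈ K, ∃ w ∈ SS (𝒦 \ {K}), v = k * w) ?_ ?_ ?_ ?_ hv
    · rintro g ⟨L, hL, hg⟩
      by_cases hLK : L = K
      · subst hLK
        exact ⟨g, hg, 1, one_mem _, (mul_one g).symm⟩
      · exact ⟨1, one_mem _, g, mem_SS_of (K := L) ⟨hL, hLK⟩ hg, (one_mul g).symm⟩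
    · exact ⟨1, one_mem _, 1, one_mem _, (mul_one 1).symm⟩
    · rintro _ _ - - ⟨k, hk, w, hw, rfl⟩ ⟨k', hk', w', hw', rfl⟩
      refine ⟨k * k', mul_mem hk hk', w * w', mul_mem hw hw', ?_⟩
      calc k * w * (k' * w') = k * (w * k') * w' := by group
        _ = k * (k' * w) * w' := by rw [hcom w hw k' hk']
        _ = k * k' * (w * w') := by group
    · rintro _ - ⟨k, hk, w, hw, rfl⟩
      refine ⟨k⁻¹, inv_mem hk, w⁻¹, inv_mem hw, ?_⟩
      rw [_root_.mul_inv_rev, hcom _ (inv_mem hw) _ (inv_mem hk)]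
  obtain ⟨k, hk, w, hw, h2⟩ := h1
  exact ⟨k, hk, w, hw, h2, hcom w hw⟩

/-- `K ∩ SS 𝒦 = ⟨z⟩` -/
theorem SS_inf (hK : K ∈ Ov Om z) (h𝒦 : 𝒦 ⊆ Ov Om z) (hn : K ∉ 𝒦) (hx : x ∈ K) (hx' : x ∈ SS 𝒦) : x = 1 ∨ x = z := by
  refine h.Ov_central hK hx fun k hk => ?_
  refine (SS_comm (x := k) (fun L hL l hl => ?_) hx').symm
  exact h.Ov_comm hK (h𝒦 hL) (fun h1 => hn (by rw [h1]; exact hL)) hk hl

/-- the centre of `SS 𝒦` -/
theorem SS_center [Finite G] : ∀ (n : ℕ) (𝒦 : Set (Subgroup G)), 𝒦.ncard = n → 𝒦 ⊆ Ov Om z → ∀ v ∈ SS 𝒦,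
    (∀ K ∈ 𝒦, ∀ k ∈ K, v * k = k * v) → v = 1 ∨ v = z := by
  intro n
  induction n with
  | zero =>
    intro 𝒦 hn h𝒦 v hv hc
    rw [Set.ncard_eq_zero] at hn
    subst hn
    rw [SS_empty, mem_bot] at hv
    exact Or.inl hv
  | succ n ih =>
    intro 𝒦 hn h𝒦 v hv hc
    obtain ⟨K, hK⟩ : 𝒦.Nonempty := by
      rw [Set.nonempty_iff_ne_empty]; rintro rfl; rw [Set.ncard_empty] at hn; omega
    obtain ⟨k, hk, w, hw, rfl, hcw⟩ := h.SS_split h𝒦 hK hv
    have hk1 : k = 1 ∨ k = z := by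
      refine h.Ov_central (h𝒦 hK) hk fun l hl => ?_
      have h1 := hc K hK l hl
      have h2 : k * l * w = l * k * w := by
        calc k * l * w = k * (l * w) := by group
          _ = k * w * l := by rw [← hcw l hl]; group
          _ = l * (k * w) := h1
          _ = l * k * w := by group
      exact mul_right_cancel h2
    have hk2 : ∀ L ∈ 𝒦, ∀ l ∈ L, k * l = l * k := by
      intro L hL l hl
      rcases hk1 with rfl | rfl
      · rw [one_mul, mul_one]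
      · exact h.Ov_cen (h𝒦 hL) hl
    have hw1 : w = 1 ∨ w = z := by
      refine ih (𝒦 \ {K}) ?_ (Set.sdiff_subset.trans h𝒦) w hw fun L hL l hl => ?_
      · have h1 := Set.ncard_sdiff_singleton_add_one hK (Set.toFinite 𝒦)
        omega
      · have h1 := hc L hL.1 l hl
        have h2 := hk2 L hL.1 l hl
        have h3 : k * (w * l) = k * (l * w) := by
          calc k * (w * l) = k * w * l := by group
            _ = l * (k * w) := h1
            _ = (l * k) * w := by group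
            _ = k * (l * w) := by rw [← h2]; group
        exact mul_left_cancel h3
    have hzz := h.zz_sq (Ov_zz (h𝒦 hK))
    rcases hk1 with rfl | rfl <;> rcases hw1 with rfl | rfl
    · left; rw [one_mul]
    · right; rw [one_mul]
    · right; rw [mul_one]
    · left; exact hzz

theorem RR_center [Finite G] (hv : v ∈ RR Om z) (hc : ∀ K ∈ Ov Om z, ∀ k ∈ K, v * k = k * v) : v = 1 ∨ v = z :=
  h.SS_center _ _ rfl subset_rfl v hv hc

theorem RR_mem (hz : z ∈ ZZ Om) : z ∈ RR Om z := by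
  obtain ⟨K, hK⟩ := hz; exact h.zz_SS (𝒦 := Ov Om z) hK subset_rfl

omit h in
theorem le_RR (hK : K ∈ Ov Om z) : K ≤ RR Om z := le_SS hK

theorem RR_cen (hx : x ∈ RR Om z) : z * x = x * z := h.SS_cen (𝒦 := Ov Om z) subset_rfl hx

theorem RR_cj (hx : x ∈ RR Om z) (g : G) : g * x * g⁻¹ ∈ RR Om (g * z * g⁻¹) :=
  SS_cj_le (fun _ hK => h.Ov_cj hK g) hx

theorem RR_cj' (hx : x ∈ RR Om z) (hg : g * z = z * g) : g * x * g⁻¹ ∈ RR Om z := by
  have h1 := h.RR_cj hx g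
  rwa [hg, mul_inv_cancel_right] at h1

/-- elements of `R_z` act inner on the members over `z` -/
theorem RR_inn (hx : x ∈ RR Om z) (hK : K ∈ Ov Om z) : Inn x K := by
  refine closure_induction (p := fun x _ => Inn x K) ?_ ?_ ?_ ?_ hx
  · rintro g ⟨L, hL, hg⟩
    by_cases hLK : L = K
    · subst hLK; exact Inn.of_mem hg
    · exact Inn.of_comm fun k hk => h.Ov_comm hL hK hLK hg hk
  · exact Inn.of_mem (one_mem K)
  · intro x y _ _ hx hy; exact hx.mul hy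
  · intro x _ hx; exact hx.inv

/-- `[R_z, R_z] ≤ ⟨z⟩` -/
theorem RR_conj (hr : r ∈ RR Om z) (hs : s ∈ RR Om z) : r * s * r⁻¹ = s ∨ r * s * r⁻¹ = z * s := by
  by_cases hz : z ∈ ZZ Om
  swap
  · have h1 : RR Om z = ⊥ := by
      rw [eq_bot_iff]
      exact SS_le fun K hK => absurd (Ov_zz hK) hz
    rw [h1, mem_bot] at hr hs
    subst hr hs
    left; group
  have hzz := h.zz_sq hz
  -- one factor in a member
  have key : ∀ K ∈ Ov Om z, ∀ a ∈ K, ∀ s ∈ RR Om z, a * s * a⁻¹ = s ∨ a * s * a⁻¹ = z * s := by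
    intro K hK a ha s hs
    obtain ⟨k, hk, w, hw, rfl, hc⟩ := h.SS_split (𝒦 := Ov Om z) subset_rfl hK hs
    have h1 : a * (k * w) * a⁻¹ = (a * k * a⁻¹) * w := by
      calc a * (k * w) * a⁻¹ = a * k * (w * a⁻¹) := by group
        _ = a * k * (a⁻¹ * w) := by rw [hc a⁻¹ (inv_mem ha)]
        _ = _ := by group
    rw [h1]
    rcases h.conj_cases hK.1 ha hk with h2 | h2
    · left; rw [h2]
    · right; rw [h2, hK.2, mul_assoc]
  refine closure_induction (p := fun r _ => r * s * r⁻¹ = s ∨ r * s * r⁻¹ = z * s) ?_ ?_ ?_ ?_ hr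
  · rintro g ⟨K, hK, hg⟩; exact key K hK g hg s hs
  · left; group
  · intro p q hp hq h1 h2
    have h3 : p * q * s * (p * q)⁻¹ = p * (q * s * q⁻¹) * p⁻¹ := by group
    have h4 : p * (z * s) * p⁻¹ = z * (p * s * p⁻¹) := by
      have h5 := h.RR_cen hp
      calc p * (z * s) * p⁻¹ = (p * z) * s * p⁻¹ := by group
        _ = _ := by rw [← h5]; group
    rw [h3]
    rcases h2 with h2 | h2
    · rw [h2]; exact h1
    · rw [h2, h4]
      rcases h1 with h1 | h1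
      · right; rw [h1]
      · left; rw [h1, ← mul_assoc, hzz, one_mul]
  · intro p hp h1
    have h5 := h.RR_cen hp
    rcases h1 with h1 | h1
    · left
      nth_rw 1 [← h1]; group
    · right
      have h2 : s = z * (p * s * p⁻¹) := by rw [h1, ← mul_assoc, hzz, one_mul]
      calc p⁻¹ * s * p⁻¹⁻¹ = p⁻¹ * (z * (p * s * p⁻¹)) * p⁻¹⁻¹ := by rw [← h2]
        _ = p⁻¹ * (z * p) * s := by group
        _ = z * s := by rw [h5]; group

/-- squares in `R_z` -/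
theorem RR_sq (hr : r ∈ RR Om z) : r * r = 1 ∨ r * r = z := by
  by_cases hz : z ∈ ZZ Om
  swap
  · have h1 : RR Om z = ⊥ := by
      rw [eq_bot_iff]
      exact SS_le fun K hK => absurd (Ov_zz hK) hz
    rw [h1, mem_bot] at hr
    subst hr
    left; rw [one_mul]
  have hzz := h.zz_sq hz
  refine closure_induction (p := fun r _ => r * r = 1 ∨ r * r = z) ?_ ?_ ?_ ?_ hr
  · rintro g ⟨K, hK, hg⟩
    have := h.sq hK.1 hg; rwa [hK.2] at this
  · left; rw [one_mul]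
  · intro p q hp hq h1 h2
    have h3 := h.RR_conj hq hp
    have h5 := h.RR_cen hp
    have h6 : p * q * (p * q) = p * (q * p * q⁻¹) * (q * q) := by group
    rw [h6]
    have h7 : p * (q * p * q⁻¹) = 1 ∨ p * (q * p * q⁻¹) = z := by
      rcases h3 with h3 | h3
      · rw [h3]; exact h1
      · have h8 : p * (z * p) = z * (p * p) := by rw [← mul_assoc, ← h5, mul_assoc]
        rw [h3, h8]
        rcases h1 with h1 | h1
        · right; rw [h1, mul_one]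
        · left; rw [h1, hzz]
    rcases h7 with h7 | h7 <;> rcases h2 with h2 | h2 <;> rw [h7, h2]
    · left; rw [one_mul]
    · right; rw [one_mul]
    · right; rw [mul_one]
    · left; exact hzz
  · intro p hp h1
    rcases h1 with h1 | h1
    · left
      rw [← _root_.mul_inv_rev, h1, inv_one]
    · right
      rw [← _root_.mul_inv_rev, h1, h.zz_inv hz]

theorem RR_two (hz : z ∈ ZZ Om) : IsPGroup 2 (RR Om z) := by
  rw [IsPGroup]
  rintro ⟨r, hr⟩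
  refine ⟨2, Subtype.ext ?_⟩
  change r ^ 2 ^ 2 = 1
  have h1 : r ^ 2 ^ 2 = (r * r) * (r * r) := by
    change r ^ 4 = _
    simp only [pow_succ, pow_zero, one_mul, mul_assoc]
  rw [h1]
  rcases h.RR_sq hr with h2 | h2 <;> rw [h2]
  · rw [one_mul]
  · exact h.zz_sq hz

/-! ### The trichotomy -/

/-- `t` inner on one member over `z`: `z` is inner on all members over `t` -/
theorem inn_swap (hK : K ∈ Ov Om z) (hi : Inn t K) (hL : L ∈ Ov Om t) : Inn z L := by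
  obtain ⟨y, hy, hyy, h1⟩ := h.exists_fix hK.1 hi
  rw [hK.2] at hyy
  have hyt : y * t = t * y := by
    rw [mul_inv_eq_iff_eq_mul] at h1; exact h1.symm
  have h2 := h.h3 K hK.1 L hL.1 y hy (by rw [hyy, hK.2]) (by rw [hL.2]; exact hyt)
  have h3 := h.inn_sq hL.1 h2 (by rw [hyy]; exact h.zz_sq (Ov_zz hK))
  rwa [hyy] at h3

/-- `t` centralises `K`: C-pair -/
theorem comm_of_cen (hK : K ∈ Ov Om z) (hc : ∀ k ∈ K, t * k = k * t) (hne : z ≠ t) (hL : L ∈ Ov Om t) :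
    ∀ a ∈ K, ∀ b ∈ L, a * b = b * a := by
  -- `K` normalises `L`
  have hn : K ≤ normalizer (L : Set G) := by
    intro k hk
    rw [mem_normalizer_iff_cj]
    rcases h.sq hK.1 hk with h1 | h1
    · have h2 : ∀ l ∈ L, z * l = l * z ∨ True := fun _ _ => Or.inr trivial
      rcases h.uniq hK.1 hk h1 with h3 | h3
      · rw [h3, cj_one]
      · -- `z = y²`
        obtain ⟨y, hy, hyy⟩ := h.exists_four hK.1
        have h4 := h.h3 K hK.1 L hL.1 y hy hyy (by rw [hL.2]; exact (hc y hy).symm)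
        rw [h3, ← hyy, cj_mul, h4, h4]
    · exact h.h3 K hK.1 L hL.1 k hk h1 (by rw [hL.2]; exact (hc k hk).symm)
  have hT : IsPGroup 2 (K ⊔ L : Subgroup G) := (h.two hK.1).to_sup_of_normal_right' (h.two hL.1) hn
  exact h.pg K hK.1 L hL.1 _ hT le_sup_left le_sup_right (h.Ov_ne hK hL hne)

theorem CP_of_cen (hK : K ∈ Ov Om z) (hc : ∀ k ∈ K, t * k = k * t) (hne : z ≠ t) : CP Om z t := by
  refine ⟨hne, fun K' hK' L hL => ?_⟩
  have h1 := h.comm_of_cen hK hc hne hL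
  -- `z` centralises `L`
  have h2 : ∀ l ∈ L, z * l = l * z := fun l hl => h1 z (h.Ov_mem hK) l hl
  intro a ha b hb
  exact (h.comm_of_cen hL h2 hne.symm hK' b hb a ha).symm

/-- a C-pair: the groups `R` commute -/
theorem CP_RR (hc : CP Om u v) (ha : a ∈ RR Om u) (hb : b ∈ RR Om v) : a * b = b * a :=
  SS_comm' (fun K hK L hL k hk l hl => hc.2 K hK L hL k hk l hl) ha hb

/-- inner but nontrivial -/
theorem IN_of (hI : ∀ K ∈ Ov Om z, Inn t K) (hn : ∀ K ∈ Ov Om z, ¬ ∀ k ∈ K, t * k = k * t) : IN Om t z := by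
  intro K hK
  obtain ⟨y, hy, h1⟩ := hI K hK
  refine ⟨y, hy, ?_, h1⟩
  have hnc : ¬ ∀ k ∈ K, y * k = k * y := by
    intro h2
    apply hn K hK
    intro k hk
    have h3 := h1 k hk
    rw [h2 k hk, mul_inv_cancel_right, mul_inv_eq_iff_eq_mul] at h3
    exact h3
  rw [← hK.2]
  refine h.sq_eq hK.1 hy ?_ ?_
  · rintro rfl; exact hnc fun k _ => by rw [one_mul, mul_one]
  · rintro rfl; exact hnc fun k hk => (h.cen hK.1 hk).symm

/-- **trichotomy** -/
theorem tri (hz : z ∈ ZZ Om) (ht : t ∈ ZZ Om) (hne : z ≠ t) :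
    CP Om z t ∨ TI Om z t ∨ (Fr Om z t ∧ Fr Om t z) := by
  by_cases hex : ∃ K ∈ Ov Om z, Inn t K
  · obtain ⟨K, hK, hi⟩ := hex
    have h1 : ∀ L ∈ Ov Om t, Inn z L := fun L hL => h.inn_swap hK hi hL
    obtain ⟨L, hL⟩ := ht
    have h2 : ∀ K ∈ Ov Om z, Inn t K := fun K hK => h.inn_swap hL (h1 L hL) hK
    by_cases hc : ∃ K ∈ Ov Om z, ∀ k ∈ K, t * k = k * t
    · obtain ⟨K', hK', hc'⟩ := hc
      exact Or.inl (h.CP_of_cen hK' hc' hne)
    push Not at hc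
    have hc' : ∀ K ∈ Ov Om z, ¬ ∀ k ∈ K, t * k = k * t := by
      intro K hK h3
      obtain ⟨k, hk, h4⟩ := hc K hK
      exact h4 (h3 k hk)
    have hd' : ∀ L ∈ Ov Om t, ¬ ∀ l ∈ L, z * l = l * z := by
      intro L hL h3
      have h4 := (h.CP_of_cen hL h3 hne.symm).symm
      exact hc' K hK fun k hk => (h4.2 K hK L hL k hk t (h.Ov_mem hL)).symm
    exact Or.inr (Or.inl ⟨h.IN_of h1 hd', h.IN_of h2 hc'⟩)
  · push Not at hex
    refine Or.inr (Or.inr ⟨?_, fun K hK _ => hex K hK⟩)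
    intro L hL _ hi
    obtain ⟨K, hK⟩ := hz
    exact hex K hK (h.inn_swap hL hi hK)

/-- a C-pair is inner -/
theorem CP_inn (hc : CP Om u v) (hu : u ∈ ZZ Om) (hL : L ∈ Ov Om v) : ∀ l ∈ L, u * l = l * u := by
  obtain ⟨K, hK⟩ := hu
  exact fun l hl => hc.2 K hK L hL u (h.Ov_mem hK) l hl

theorem CP_comm (hc : CP Om u v) (hu : u ∈ ZZ Om) (hv : v ∈ ZZ Om) : u * v = v * u :=
  h.CP_RR hc (h.RR_mem hu) (h.RR_mem hv)

theorem CP_cj (hc : CP Om u v) (g : G) : CP Om (g * u * g⁻¹) (g * v * g⁻¹) := by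
  refine ⟨fun h1 => hc.1 (mul_left_cancel (mul_right_cancel h1)), fun K hK L hL a ha b hb => ?_⟩
  have h1 := h.Ov_cj hK g⁻¹
  have h2 := h.Ov_cj hL g⁻¹
  rw [show g⁻¹ * (g * u * g⁻¹) * g⁻¹⁻¹ = u by group] at h1
  rw [show g⁻¹ * (g * v * g⁻¹) * g⁻¹⁻¹ = v by group] at h2
  have h3 := hc.2 _ h1 _ h2 _ (conj_mem_cj ha) _ (conj_mem_cj hb)
  calc a * b = g * (g⁻¹ * a * g⁻¹⁻¹ * (g⁻¹ * b * g⁻¹⁻¹)) * g⁻¹ := by group
    _ = g * (g⁻¹ * b * g⁻¹⁻¹ * (g⁻¹ * a * g⁻¹⁻¹)) * g⁻¹ := by rw [h3]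
    _ = b * a := by group

end

/-! ### From `Hyp Om` -/

theorem of_hyp [Finite G] (h : Hyp Om) (h8 : ∀ K ∈ Om, Nat.card K = 8) : WR Om := by
  haveI : Fact (Nat.Prime 2) := ⟨Nat.prime_two⟩
  have h2 : ∀ K ∈ Om, IsPGroup 2 K := fun K hK => IsPGroup.of_card (n := 3) (h8 K hK)
  have hq : ∀ K ∈ Om, Nonempty (K ≃* QuaternionGroup 2) := by
    intro K hK
    obtain ⟨S, n, ⟨e⟩⟩ := h.quat K hK
    have h3 : (S : Subgroup K) = ⊤ := by
      have h4 : IsPGroup 2 (⊤ : Subgroup K) := (h2 K hK).to_subgroup ⊤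
      exact S.is_maximal' h4 le_top |>.symm
    have h5 : Nat.card (S : Subgroup K) = 8 := by rw [h3, card_top, h8 K hK]
    have h6 : n = 0 := by
      rw [Nat.card_congr e.toEquiv, Nat.card_eq_fintype_card, QuaternionGroup.card, pow_succ] at h5
      by_contra hn
      have h7 : 2 ^ 1 ≤ 2 ^ n := Nat.pow_le_pow_right (by norm_num) (by omega)
      omega
    subst h6
    exact ⟨(((MulEquiv.subgroupCongr h3).trans topEquiv).symm.trans e)⟩
  have hpg : ∀ K ∈ Om, ∀ L ∈ Om, ∀ T : Subgroup G, IsPGroup 2 T → K ≤ T → L ≤ T → K ≠ L →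
      ∀ a ∈ K, ∀ b ∈ L, a * b = b * a := by
    intro K hK L hL T hT hKT hLT hne a ha b hb
    have hm : ∀ M ∈ Om, M ≤ T → M ∈ OmS Om T := by
      intro M hM hMT
      refine ⟨hM, ?_⟩
      rw [relIndex_eq_one.2 hMT]
      norm_num
    exact h.comm hT (hm K hK hKT) (hm L hL hLT) hne (mem_inf.2 ⟨ha, hKT ha⟩) (mem_inf.2 ⟨hb, hLT hb⟩)
  refine ⟨hq, h.conj, ?_, ?_, hpg⟩
  · intro K hK L hL hz hne a ha b hb
    exact h.comm_of_zz_comm hK hL (h2 K hK) (h2 L hL) (fun a ha => by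
      rw [← hz]
      exact mem_centralizer_singleton_iff.1 (h.le_centralizer hK ha)) hne a ha b hb
  · intro K hK L hL y hy hyy hyL
    rw [← mem_normalizer_iff_cj]
    refine h.h3 K hK L hL y hy ?_ ?_ hyL
    · exact (h2 K hK).to_le (by rwa [zpowers_le])
    · have h1 : orderOf y = 4 := by
        have h3 := orderOf_eq_prime_pow (p := 2) (n := 1) (x := y)
          (by rw [pow_one, pow_two, hyy]; exact h.zz_ne hK)
          (by
            have : y ^ 2 ^ (1 + 1) = (y * y) * (y * y) := by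
              change y ^ 4 = _
              simp only [pow_succ, pow_zero, one_mul, mul_assoc]
            rw [this, hyy, h.zz_mul hK])
        simpa using h3
      omega

end WR

end Cfsg.Agent.Cit.Nil.RG
end

private theorem dce_253533d41791 : _root_.True := by
  try have : _root_.True := by simp only [_root_.Cfsg.Agent.Cit.Nil.RG.SS.eq_1]
  exact _root_.True.intro
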