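import Cfsg.Agent.Cit.Nil.RG.TZero
import Cfsg.Agent.Cit.Nil.RFour.SClosed
import Mathlib
import Cfsg.Agent.FastGrp
import Cfsg.Agent.Prune
set_option linter.all false
prune_inst 0x7f00000000000000000000000000000000000000000000000000000000000000000000000000000000000000000000000000000000000000000000000000000000000000000000000000000000000000003fffffffffffffffffffffffffffbeffbdffffffff
open scoped Cfsg.Agent.FastGrp

-- part: Cit/Nil/RG/FOne
section
/-!
# (6b), general `r`: (F1) (helper488)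

Commuting elements of `ZZ Om` are C-pairs, at least two members over each involution: `x, u ∈ ZZ Om`, `u` commutes
with `x u x⁻¹`: then `x` commutes with `u`.
-/

set_option autoImplicit false
set_option linter.style.haveILetI false
set_option linter.unusedSectionVars false

namespace Cfsg.Agent.Cit.Nil.RG

open Subgroup Cfsg Cit QuaternionGroup
open Cfsg.Agent.Cit.Nil.ROne

variable {G : Type*} [Group G]

/-- commuting involutions are C-pairs -/
def AllC (Om : Set (Subgroup G)) : Prop := ∀ s ∈ ZZ Om, ∀ x ∈ ZZ Om, x ≠ s → x * s = s * x → CP Om x s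

/-- at least two members over each involution -/
def R2 (Om : Set (Subgroup G)) : Prop := ∀ z ∈ ZZ Om, 2 ≤ (Ov Om z).ncard

theorem R3.r2 {Om : Set (Subgroup G)} (h : R3 Om) : R2 Om := fun z hz => le_trans (by norm_num) (h z hz)

theorem exists_second [Finite G] {Om : Set (Subgroup G)} {z : G} (h2 : 2 ≤ (Ov Om z).ncard) (K : Subgroup G) :
    ∃ M ∈ Ov Om z, M ≠ K := by
  by_contra hcon
  push Not at hcon
  have h1 : Ov Om z ⊆ {K} := fun M hM => hcon M hM
  have h3 := Set.ncard_le_ncard h1 (Set.toFinite _)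
  rw [Set.ncard_singleton] at h3
  omega

namespace WR

variable {Om : Set (Subgroup G)} {𝒦 𝒦' : Set (Subgroup G)} {K L M : Subgroup G}
  {z x y g g' u v w a a' b k l r s t i p q c : G}

section

variable (h : WR Om) (hC : AllC Om)

include h hC

/-- (A) -/
theorem f1a (hx : x ∈ ZZ Om) (hu : u ∈ ZZ Om) (huv : CP Om u (x * u * x⁻¹)) (ha : a ∈ RR Om u) (haa : a * a = 1) :
    x * (a * x * a⁻¹) = (a * x * a⁻¹) * x ∧ ∀ s ∈ RR Om x, (a * (x * a * x⁻¹)) * s = s * (a * (x * a * x⁻¹)) := by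
  have hxx := h.zz_sq hx
  have hxi := h.zz_inv hx
  have hai : a⁻¹ = a := inv_eq_of_mul_eq_one_right haa
  have hcom : a * (x * a * x⁻¹) = (x * a * x⁻¹) * a := h.CP_RR huv ha (h.RR_cj ha x)
  have h1 : a * x * a⁻¹ = x * (a * (x * a * x⁻¹)) := by
    rw [hcom, hai, hxi]
    calc a * x * a = 1 * a * x * a := by group
      _ = (x * x) * a * x * a := by rw [hxx]
      _ = _ := by group
  have hdx : x * (a * (x * a * x⁻¹)) = (a * (x * a * x⁻¹)) * x := by
    calc x * (a * (x * a * x⁻¹)) = (x * a * x⁻¹) * (x * x) * a * x⁻¹ := by group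
      _ = (x * a * x⁻¹) * a * x⁻¹ := by rw [hxx, mul_one]
      _ = (a * (x * a * x⁻¹)) * x⁻¹ := by rw [hcom]
      _ = (a * (x * a * x⁻¹)) * x := by rw [hxi]
  have hx' : a * x * a⁻¹ ∈ ZZ Om := h.zz_cj hx a
  have hcx : x * (a * x * a⁻¹) = (a * x * a⁻¹) * x := by
    rw [h1, mul_assoc x _ x, ← hdx]
  refine ⟨hcx, fun s hs => ?_⟩
  by_cases hne : a * x * a⁻¹ = x
  · rw [h1] at hne
    rw [mul_eq_left.1 hne, one_mul, mul_one]
  · have h2 := hC x hx _ hx' hne hcx.symm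
    have h3 := h.CP_RR h2 (h.RR_mem hx') hs
    have h4 := h.RR_cen hs
    rw [h1] at h3
    have h5 : x * ((a * (x * a * x⁻¹)) * s) = x * (s * (a * (x * a * x⁻¹))) := by
      calc x * ((a * (x * a * x⁻¹)) * s) = x * (a * (x * a * x⁻¹)) * s := by group
        _ = (s * x) * (a * (x * a * x⁻¹)) := by rw [h3]; group
        _ = _ := by rw [← h4]; group
    exact mul_left_cancel h5

/-- (B) -/
theorem f1b [Finite G] (h2 : R2 Om) (hx : x ∈ ZZ Om) (hu : u ∈ ZZ Om) (huv : CP Om u (x * u * x⁻¹)) (hK : K ∈ Ov Om u)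
    (hk : k ∈ K) (hkk : k * k = u) : ∀ s ∈ RR Om x, (k * (x * k * x⁻¹)) * s = s * (k * (x * k * x⁻¹)) := by
  have huu := h.zz_sq hu
  obtain ⟨L, hL, hLK⟩ := exists_second (h2 u hu) K
  obtain ⟨l, hl, hll⟩ := h.exists_four hL.1
  rw [hL.2] at hll
  have hkq : k * k = zz K := by rw [hkk, hK.2]
  obtain ⟨b, hb, hbb, hb1, hb2⟩ := h.exists_anti hK.1 hk hkq
  obtain ⟨-, h3⟩ := h.anti hK.1 hk hb hkq hbb hb1 hb2
  rw [hK.2] at hbb h3
  have hbi : b⁻¹ = u * b := by rw [h.inv_eq hK.1 hb (by rw [hbb, hK.2]), hK.2]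
  have hli : l⁻¹ = u * l := by rw [h.inv_eq hL.1 hl (by rw [hll, hL.2]), hL.2]
  -- `k = k₁ b`, `k₁ = k b⁻¹`
  have hk1 : k * b⁻¹ ∈ K := mul_mem hk (inv_mem hb)
  have hk1s : (k * b⁻¹) * (k * b⁻¹) = u := by
    have h4 : k * b⁻¹ = u * (k * b) := by rw [hbi, ← mul_assoc, ← h.Ov_cen hK hk, mul_assoc]
    have h5 := h.Ov_cen hK (mul_mem hk hb)
    rw [h4]
    calc u * (k * b) * (u * (k * b)) = u * ((k * b) * u) * (k * b) := by group
      _ = u * (u * (k * b)) * (k * b) := by rw [h5]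
      _ = (u * u) * ((k * b) * (k * b)) := by group
      _ = u := by rw [huu, h3, one_mul]
  have hc : ∀ p ∈ K, p * l = l * p := fun p hp => h.Ov_comm hK hL hLK.symm hp hl
  have ha1 : (k * b⁻¹ * l) * (k * b⁻¹ * l) = 1 := by
    have h4 := hc _ hk1
    calc (k * b⁻¹ * l) * (k * b⁻¹ * l) = (k * b⁻¹) * (l * (k * b⁻¹)) * l := by group
      _ = (k * b⁻¹) * (k * b⁻¹ * l) * l := by rw [h4]
      _ = ((k * b⁻¹) * (k * b⁻¹)) * (l * l) := by group
      _ = 1 := by rw [hk1s, hll, huu]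
  have ha2 : (b * l⁻¹) * (b * l⁻¹) = 1 := by
    have h4 : l⁻¹ * b = b * l⁻¹ := by
      rw [inv_mul_eq_iff_eq_mul, ← mul_assoc, ← hc b hb, mul_inv_cancel_right]
    calc (b * l⁻¹) * (b * l⁻¹) = b * (l⁻¹ * b) * l⁻¹ := by group
      _ = (b * b) * (l * l)⁻¹ := by rw [h4]; group
      _ = 1 := by rw [hbb, hll, mul_inv_cancel]
  have ha1m : k * b⁻¹ * l ∈ RR Om u := mul_mem (le_RR hK hk1) (le_RR hL hl)
  have ha2m : b * l⁻¹ ∈ RR Om u := mul_mem (le_RR hK hb) (inv_mem (le_RR hL hl))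
  have hkp : k = (k * b⁻¹ * l) * (b * l⁻¹) := by
    calc k = (k * b⁻¹) * b := by group
      _ = (k * b⁻¹) * (b * l) * l⁻¹ := by group
      _ = (k * b⁻¹) * (l * b) * l⁻¹ := by rw [hc b hb]
      _ = _ := by group
  obtain ⟨a1, e1⟩ : ∃ a1, a1 = k * b⁻¹ * l := ⟨_, rfl⟩
  obtain ⟨a2, e2⟩ : ∃ a2, a2 = b * l⁻¹ := ⟨_, rfl⟩
  rw [← e1] at ha1 ha1m hkp
  rw [← e2] at ha2 ha2m hkp
  have h5 : a2 * (x * a1 * x⁻¹) = (x * a1 * x⁻¹) * a2 := h.CP_RR huv ha2m (h.RR_cj ha1m x)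
  have h6 : k * (x * k * x⁻¹) = (a1 * (x * a1 * x⁻¹)) * (a2 * (x * a2 * x⁻¹)) := by
    rw [hkp]
    calc a1 * a2 * (x * (a1 * a2) * x⁻¹) = a1 * (a2 * (x * a1 * x⁻¹)) * (x * a2 * x⁻¹) := by group
      _ = a1 * ((x * a1 * x⁻¹) * a2) * (x * a2 * x⁻¹) := by rw [h5]
      _ = _ := by group
  intro s hs
  have h7 := (h.f1a hC hx hu huv ha1m ha1).2 s hs
  have h8 := (h.f1a hC hx hu huv ha2m ha2).2 s hs
  rw [h6, mul_assoc, h8, ← mul_assoc, h7, mul_assoc]

/-- **(F1)** -/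
theorem f1 [Finite G] (h2 : R2 Om) (hx : x ∈ ZZ Om) (hu : u ∈ ZZ Om)
    (hc : u * (x * u * x⁻¹) = (x * u * x⁻¹) * u) : x * u = u * x := by
  by_contra hcon
  have hxx := h.zz_sq hx
  have hxi := h.zz_inv hx
  have huu := h.zz_sq hu
  have hui := h.zz_inv hu
  obtain ⟨v, hv⟩ : ∃ v, v = x * u * x⁻¹ := ⟨_, rfl⟩
  rw [← hv] at hc
  have hvZ : v ∈ ZZ Om := by rw [hv]; exact h.zz_cj hu x
  have hvu : v ≠ u := by
    intro h3
    apply hcon
    rw [hv, mul_inv_eq_iff_eq_mul] at h3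
    exact h3
  have hCP : CP Om u v := hC v hvZ u hu hvu.symm hc
  obtain ⟨c, hc0⟩ : ∃ c, c = u * v := ⟨_, rfl⟩
  have hvv := h.zz_sq hvZ
  have hxv : x * v * x⁻¹ = u := by
    rw [hv]
    calc x * (x * u * x⁻¹) * x⁻¹ = (x * x) * u * (x * x)⁻¹ := by group
      _ = u := by rw [hxx]; group
  have hcc : c * c = 1 := by
    rw [hc0]
    calc u * v * (u * v) = u * (v * u) * v := by group
      _ = u * (u * v) * v := by rw [hc]
      _ = (u * u) * (v * v) := by group
      _ = 1 := by rw [huu, hvv, one_mul]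
  have hvc : v = u * c := by rw [hc0, ← mul_assoc, huu, one_mul]
  have huc : u * c = c * u := by rw [hc0, ← mul_assoc, huu, one_mul, mul_assoc, ← hc, ← mul_assoc, huu, one_mul]
  have hc1 : c ≠ 1 := by
    intro h3
    rw [h3, mul_one] at hvc
    exact hvu hvc
  have hxc : x * c * x⁻¹ = c := by
    rw [hc0]
    calc x * (u * v) * x⁻¹ = (x * u * x⁻¹) * (x * v * x⁻¹) := by group
      _ = u * v := by rw [hxv, ← hv, hc]
  have hxc' : x * c = c * x := by rwa [mul_inv_eq_iff_eq_mul] at hxc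
  have hux : u * x * u⁻¹ = x * c := by
    rw [hui]
    calc u * x * u = 1 * (u * x * u) := by group
      _ = (x * x) * (u * x * u) := by rw [hxx]
      _ = x * ((x * u * x) * u) := by group
      _ = x * ((x * u * x⁻¹) * u) := by rw [hxi]
      _ = x * c := by rw [← hv, ← hc, hc0]
  have hxcZ : x * c ∈ ZZ Om := by rw [← hux]; exact h.zz_cj hx u
  have hCPx : CP Om x (u * x * u⁻¹) := by
    rw [hux]
    exact hC _ hxcZ x hx (fun h3 => hc1 (mul_eq_left.1 h3.symm)) (by rw [mul_assoc x c x, ← hxc'])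
  -- `c` centralises `R_x`
  have hcR : ∀ s ∈ RR Om x, c * s = s * c := by
    intro s hs
    have h3 := h.CP_RR hCPx hs (h.RR_mem (h.zz_cj hx u))
    rw [hux] at h3
    have h4 := h.RR_cen hs
    have h5 : x * (c * s) = x * (s * c) := by
      calc x * (c * s) = x * c * s := by group
        _ = s * (x * c) := h3.symm
        _ = (s * x) * c := by group
        _ = _ := by rw [← h4]; group
    exact mul_left_cancel h5
  -- (C)
  have stepC : ∀ s ∈ RR Om x, s * s = 1 → s * u * s⁻¹ = u ∨ s * u * s⁻¹ = v := by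
    intro s hs hss
    obtain ⟨w, hw⟩ : ∃ w, w = s * u * s⁻¹ := ⟨_, rfl⟩
    rw [← hw]
    by_contra hcon2
    push Not at hcon2
    obtain ⟨hwu, hwv⟩ := hcon2
    have hwZ : w ∈ ZZ Om := by rw [hw]; exact h.zz_cj hu s
    have h3 : u * w = w * u := by
      have h4 := (h.f1a hC hu hx (by exact hCPx) hs hss).1
      rw [← hw] at h4
      exact h4
    have hwc : s * v * s⁻¹ = w * c := by
      have h4 : s * c = c * s := (hcR s hs).symm
      calc s * v * s⁻¹ = s * u * c * s⁻¹ := by rw [hvc]; group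
        _ = (s * u * s⁻¹) * (s * c * s⁻¹) := by group
        _ = w * c := by rw [h4, mul_inv_cancel_right, ← hw]
    have hwcZ : w * c ∈ ZZ Om := by rw [← hwc]; exact h.zz_cj hvZ s
    have h5 : u * (w * c) = (w * c) * u := by rw [← mul_assoc, h3, mul_assoc, huc, ← mul_assoc]
    have h6 : w * c ≠ u := by
      intro h7
      apply hwv
      have h8 : w = u * c := by rw [← h7, mul_assoc, hcc, mul_one]
      rw [h8, hvc]
    have hCP1 : CP Om w u := hC u hu w hwZ hwu h3.symm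
    have hCP2 : CP Om (w * c) u := hC u hu _ hwcZ h6 h5.symm
    obtain ⟨K, hK⟩ := id hu
    obtain ⟨k, hk, hkk⟩ := h.exists_four hK.1
    rw [hK.2] at hkk
    have hd := h.f1b hC h2 hx hu (by rw [← hv]; exact hCP) hK hk hkk s hs
    refine h.four_nc hK hk hkk fun l hl => ?_
    have hlR : l ∈ RR Om u := le_RR hK hl
    have hkR : k ∈ RR Om u := le_RR hK hk
    -- `d = s d s⁻¹`
    have h7 : k * (x * k * x⁻¹) = (s * k * s⁻¹) * (s * (x * k * x⁻¹) * s⁻¹) := by
      have h8 : s * (k * (x * k * x⁻¹)) * s⁻¹ = k * (x * k * x⁻¹) := by rw [← hd, mul_inv_cancel_right]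
      rw [← h8]; group
    have h8 : s * k * s⁻¹ ∈ RR Om w := by rw [hw]; exact h.RR_cj hkR s
    have h9 : s * (x * k * x⁻¹) * s⁻¹ ∈ RR Om (w * c) := by
      rw [← hwc, hv]; exact h.RR_cj (h.RR_cj hkR x) s
    have h10 := h.CP_RR hCP1 h8 hlR
    have h11 := h.CP_RR hCP2 h9 hlR
    have h12 : (k * (x * k * x⁻¹)) * l = l * (k * (x * k * x⁻¹)) := by
      rw [h7, mul_assoc, h11, ← mul_assoc, h10, mul_assoc]
    have h13 : l * (x * k * x⁻¹) = (x * k * x⁻¹) * l := by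
      have h14 : x * k * x⁻¹ ∈ RR Om v := by rw [hv]; exact h.RR_cj hkR x
      exact h.CP_RR hCP hlR h14
    have h14 : (k * l) * (x * k * x⁻¹) = (l * k) * (x * k * x⁻¹) := by
      calc (k * l) * (x * k * x⁻¹) = k * (l * (x * k * x⁻¹)) := by group
        _ = k * ((x * k * x⁻¹) * l) := by rw [h13]
        _ = (k * (x * k * x⁻¹)) * l := by group
        _ = l * (k * (x * k * x⁻¹)) := h12
        _ = _ := by group
    exact mul_right_cancel h14
  -- (D)
  obtain ⟨K, hK⟩ := id hx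
  obtain ⟨L, hL, hLK⟩ := exists_second (h2 x hx) K
  obtain ⟨k, hk, hkk⟩ := h.exists_four hK.1
  obtain ⟨k', hk', hkk', hk1, hk2⟩ := h.exists_anti hK.1 hk hkk
  obtain ⟨-, h3⟩ := h.anti hK.1 hk hk' hkk hkk' hk1 hk2
  obtain ⟨l, hl, hll⟩ := h.exists_four hL.1
  rw [hK.2] at hkk hkk' h3
  rw [hL.2] at hll
  have hcl : ∀ p ∈ K, p * l = l * p := fun p hp => h.Ov_comm hK hL hLK.symm hp hl
  have inv : ∀ p ∈ K, p * p = x → (p * l) * (p * l) = 1 := by
    intro p hp hpp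
    calc (p * l) * (p * l) = p * (l * p) * l := by group
      _ = p * (p * l) * l := by rw [hcl p hp]
      _ = (p * p) * (l * l) := by group
      _ = 1 := by rw [hpp, hll, hxx]
  have hmem : ∀ p ∈ K, p * l ∈ RR Om x := fun p hp => mul_mem (le_RR hK hp) (le_RR hL hl)
  have ca := stepC _ (hmem k hk) (inv k hk hkk)
  have cb := stepC _ (hmem k' hk') (inv k' hk' hkk')
  -- `p = a b`
  have mv : ∀ p ∈ RR Om x, (p * u * p⁻¹ = u ∨ p * u * p⁻¹ = v) → (p * v * p⁻¹ = v ∨ p * v * p⁻¹ = u) ∧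
      (p * u * p⁻¹ = u → p * v * p⁻¹ = v) ∧ (p * u * p⁻¹ = v → p * v * p⁻¹ = u) := by
    intro p hp hpu
    have h4 : p * c = c * p := (hcR p hp).symm
    have h5 : p * v * p⁻¹ = (p * u * p⁻¹) * c := by
      calc p * v * p⁻¹ = (p * u * p⁻¹) * (p * c * p⁻¹) := by rw [hvc]; group
        _ = _ := by rw [h4, mul_inv_cancel_right]
    have h6 : v * c = u := by rw [hvc, mul_assoc, hcc, mul_one]
    refine ⟨?_, ?_, ?_⟩
    · rcases hpu with h7 | h7
      · left; rw [h5, h7, hvc]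
      · right; rw [h5, h7, h6]
    · intro h7; rw [h5, h7, hvc]
    · intro h7; rw [h5, h7, h6]
  have hpab : ((k * l) * (k' * l)) * ((k * l) * (k' * l)) = x := by
    have h4 : (k * l) * (k' * l) = (k * k') * x := by
      calc (k * l) * (k' * l) = k * (l * k') * l := by group
        _ = k * (k' * l) * l := by rw [hcl k' hk']
        _ = (k * k') * (l * l) := by group
        _ = _ := by rw [hll]
    have h5 := h.Ov_cen hK (mul_mem hk hk')
    rw [h4]
    calc (k * k') * x * ((k * k') * x) = (k * k') * (x * (k * k')) * x := by group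
      _ = (k * k') * ((k * k') * x) * x := by rw [h5]
      _ = ((k * k') * (k * k')) * (x * x) := by group
      _ = x := by rw [h3, hxx, mul_one]
  obtain ⟨a, ha0⟩ : ∃ a, a = k * l := ⟨_, rfl⟩
  obtain ⟨b, hb0⟩ : ∃ b, b = k' * l := ⟨_, rfl⟩
  have haR := hmem k hk
  have hbR := hmem k' hk'
  rw [← ha0] at ca hpab haR
  rw [← hb0] at cb hpab hbR
  have hma := mv a haR ca
  have hp : (a * b) * u * (a * b)⁻¹ = u ∨ (a * b) * u * (a * b)⁻¹ = v := by
    have h4 : (a * b) * u * (a * b)⁻¹ = a * (b * u * b⁻¹) * a⁻¹ := by group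
    rw [h4]
    rcases cb with h5 | h5
    · rw [h5]; exact ca
    · rw [h5]; exact hma.1.symm
  have hmp := mv (a * b) (mul_mem haR hbR) hp
  apply hvu
  rw [hv]
  have h4 : x * u * x⁻¹ = (a * b) * ((a * b) * u * (a * b)⁻¹) * (a * b)⁻¹ := by
    nth_rw 1 2 [← hpab]; group
  rw [h4]
  rcases hp with h5 | h5
  · rw [h5, h5]
  · rw [h5]; exact hmp.2.2 h5

end

end WR

end Cfsg.Agent.Cit.Nil.RG
end

-- part: Cit/Nil/RG/CZ
section
/-!
# (6b), `r ≥ 3`, NIL: strong closure without the centralisers of products (helper488)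

`CZ Z` : `Z` is an invariant set of involutions, commuting is transitive on `Z`, and (F1): if `u` commutes with
`x u x⁻¹`, then `u` commutes with `x`.  `AZ Z z = ⟨u ∈ Z : [u, z] = 1⟩`.

* `pg_le` : a 2-group containing `z ∈ Z` normalises `AZ Z z`;
* `hb` : `b, e ∈ AZ Z z`, `u ∈ Z` commutes with `e` and moves `b` to `b` or `b e`: then `b ∈ AZ Z u`;
* `closed_of` : `AZ Z z` is strongly closed in `S ∋ z`, if every `b ∈ S` as in `closed_of` has a suitable `u, x`.
-/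

set_option autoImplicit false
set_option linter.style.haveILetI false
set_option linter.unusedSectionVars false

namespace Cfsg.Agent.Cit.Nil.RG

open Subgroup Cfsg Cfsg.Agent.Cit Cfsg.Agent.Cit.Nil.RFour

variable {G : Type*} [Group G]

/-- see the head of the file -/
structure CZ (Z : Set G) : Prop extends ComZ Z where
  f1 : ∀ x ∈ Z, ∀ u ∈ Z, u * (x * u * x⁻¹) = (x * u * x⁻¹) * u → x * u = u * x

namespace CZ

variable {Z : Set G} {z z' u x b e g h : G} (c : CZ Z)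

include c

/-- `Z ∩ N(Δ) = Δ` -/
theorem comm_of_norm (hz : z ∈ Z) (hx : x ∈ Z) (hn : x ∈ normalizer (AZ Z z : Set G)) : x * z = z * x := by
  refine c.f1 x hx z hz ?_
  have h1 : x * z * x⁻¹ ∈ AZ Z z := (mem_normalizer_iff.1 hn z).1 (ComZ.self_mem hz)
  exact c.AZ_comm hz _ (ComZ.self_mem hz) _ h1

theorem eq_of_norm (hz : z ∈ Z) (hx : x ∈ Z) (hn : x ∈ normalizer (AZ Z z : Set G)) : AZ Z x = AZ Z z :=
  c.AZ_eq hx hz (c.comm_of_norm hz hx hn)

theorem norm_of_conj (hz : z ∈ Z) (hn : g * z * g⁻¹ ∈ normalizer (AZ Z z : Set G)) : g ∈ normalizer (AZ Z z : Set G) :=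
  c.mem_norm_of hz (c.comm_of_norm hz (c.conj z hz g) hn).symm

theorem z_norm (hz : z ∈ Z) : z ∈ normalizer (AZ Z z : Set G) := le_normalizer (ComZ.self_mem hz)

/-- a 2-group containing `z` normalises `AZ Z z` -/
theorem pg_le [Finite G] (hz : z ∈ Z) {P : Subgroup G} (hP : IsPGroup 2 P) (hzP : z ∈ P) :
    P ≤ normalizer (AZ Z z : Set G) := by
  by_contra hcon
  obtain ⟨b, hb, hb1, hb2⟩ := exists_normalizing hP (A := P ⊓ normalizer (AZ Z z : Set G)) inf_le_left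
    (fun h1 => hcon (inf_eq_left.1 h1))
  apply hb1
  refine Subgroup.mem_inf.2 ⟨hb, ?_⟩
  have h2 := conj_mem_cj (g := b) (Subgroup.mem_inf.2 ⟨hzP, c.z_norm hz⟩ : z ∈ P ⊓ normalizer (AZ Z z : Set G))
  rw [hb2] at h2
  exact c.norm_of_conj hz h2.2

/-- a 2-subgroup `R` of `H ≥ AZ Z z` is `H`-conjugate into `N(AZ Z z)` -/
theorem exists_conj_le [Finite G] (hz : z ∈ Z) {H R : Subgroup G} (hAH : AZ Z z ≤ H) (hR : IsPGroup 2 R) (hRH : R ≤ H) :
    ∃ d ∈ H, cj d R ≤ normalizer (AZ Z z : Set G) := by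
  obtain ⟨P, hP⟩ := ((c.AZ_two hz).comap_subtype (K := H)).exists_le_sylow
  have hP2 : IsPGroup 2 ((P : Subgroup H).map H.subtype) := P.isPGroup'.map _
  have hzP : z ∈ (P : Subgroup H).map H.subtype :=
    ⟨⟨z, hAH (ComZ.self_mem hz)⟩, hP (mem_subgroupOf.2 (ComZ.self_mem hz)), rfl⟩
  have hPM := c.pg_le hz hP2 hzP
  obtain ⟨m, hm⟩ := exists_le_cj P (hR.comap_subtype (K := H))
  refine ⟨(m : G)⁻¹, inv_mem m.2, ?_⟩
  intro x hx
  rw [mem_cj, inv_inv] at hx
  have h1 : (⟨(m : G) * x * (m : G)⁻¹, hRH hx⟩ : H) ∈ cj m (P : Subgroup H) := hm (mem_subgroupOf.2 hx)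
  rw [mem_cj] at h1
  have h2 := hPM (mem_map_of_mem H.subtype h1)
  have h3 : H.subtype (m⁻¹ * (⟨(m : G) * x * (m : G)⁻¹, hRH hx⟩ : H) * m) = x := by
    change (m : G)⁻¹ * ((m : G) * x * (m : G)⁻¹) * (m : G) = x
    group
  rwa [h3] at h2

/-- **(HB)** -/
theorem hb [Finite G] (hz : z ∈ Z) (hb : b ∈ AZ Z z) (he : e ∈ AZ Z z) (hu : u ∈ Z) (hue : u * e = e * u)
    (hub : u * b * u⁻¹ = b ∨ u * b * u⁻¹ = b * e) : b ∈ AZ Z u := by
  have hee := c.AZ_sq hz e he
  have hbe := c.AZ_comm hz b hb e he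
  let H : Subgroup G :=
    { carrier := {h | h * e = e * h ∧ (h * b * h⁻¹ = b ∨ h * b * h⁻¹ = b * e)}
      mul_mem' := by
        rintro p q ⟨h1, h2⟩ ⟨h3, h4⟩
        refine ⟨by rw [mul_assoc, h3, ← mul_assoc, h1, mul_assoc], ?_⟩
        have h5 : p * q * b * (p * q)⁻¹ = p * (q * b * q⁻¹) * p⁻¹ := by group
        have h6 : p * (b * e) * p⁻¹ = (p * b * p⁻¹) * e := by
          calc p * (b * e) * p⁻¹ = (p * b * p⁻¹) * (p * e * p⁻¹) := by group
            _ = _ := by rw [h1, mul_inv_cancel_right]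
        rw [h5]
        rcases h4 with h4 | h4
        · rw [h4]; exact h2
        · rw [h4, h6]
          rcases h2 with h2 | h2
          · right; rw [h2]
          · left; rw [h2, mul_assoc, hee, mul_one]
      one_mem' := ⟨by group, Or.inl (by group)⟩
      inv_mem' := by
        rintro p ⟨h1, h2⟩
        have h3 : p⁻¹ * e = e * p⁻¹ := by rw [inv_mul_eq_iff_eq_mul, ← mul_assoc, h1, mul_inv_cancel_right]
        refine ⟨h3, ?_⟩
        rcases h2 with h2 | h2
        · left; nth_rw 1 [← h2]; group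
        · right
          have h4 : b = (p * b * p⁻¹) * e := by rw [h2, mul_assoc, hee, mul_one]
          calc p⁻¹ * b * p⁻¹⁻¹ = p⁻¹ * ((p * b * p⁻¹) * e) * p⁻¹⁻¹ := by rw [← h4]
            _ = b * (p⁻¹ * e) * p := by group
            _ = b * (e * p⁻¹) * p := by rw [h3]
            _ = b * e := by group }
  have hAH : AZ Z z ≤ H := fun a ha =>
    ⟨c.AZ_comm hz a ha e he, Or.inl (by rw [c.AZ_comm hz a ha b hb, mul_inv_cancel_right])⟩
  have huH : u ∈ H := ⟨hue, hub⟩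
  have hu2 : IsPGroup 2 (zpowers u) := by
    haveI : Fact (Nat.Prime 2) := ⟨Nat.prime_two⟩
    refine IsPGroup.of_card (n := 1) ?_
    rw [Nat.card_zpowers, pow_one]
    exact orderOf_eq_prime (by rw [pow_two]; exact c.sq u hu) (c.ne u hu)
  obtain ⟨d, hd, hdM⟩ := c.exists_conj_le hz hAH hu2 (zpowers_le.2 huH)
  have h1 : d * u * d⁻¹ ∈ normalizer (AZ Z z : Set G) := hdM (conj_mem_cj (mem_zpowers u))
  have h2 := c.eq_of_norm hz (c.conj u hu d) h1
  rw [c.AZ_conj d] at h2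
  -- `b = d⁻¹ (d b d⁻¹) d`
  have h3 : d * b * d⁻¹ ∈ AZ Z z := by
    rcases hd.2 with h3 | h3
    · rw [h3]; exact hb
    · rw [h3]; exact mul_mem hb he
  rw [← h2] at h3
  exact conj_mem_cj_iff.1 h3

/-- **(SC)** -/
theorem closed_of [Finite G] (S : Sylow 2 G) (hz : z ∈ Z) (hzS : z ∈ (S : Subgroup G))
    (cnt : ∀ b ∈ (S : Subgroup G), b * b = 1 → ∀ k, b ∈ AZ Z (k * z * k⁻¹) →
      (∀ s ∈ (S : Subgroup G), s * b = b * s → s ∈ normalizer (AZ Z (k * z * k⁻¹) : Set G)) →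
      (∀ u ∈ Z, z * u = u * z → u * b ≠ b * u) →
      ∃ u ∈ Z, z * u = u * z ∧ ∃ x ∈ Z, x * (k * z * k⁻¹) = (k * z * k⁻¹) * x ∧
        x * (u * (b * u * b⁻¹)) = (u * (b * u * b⁻¹)) * x) :
    IsStronglyClosed (AZ Z z) (S : Subgroup G) := by
  have hSM := c.pg_le hz S.isPGroup' hzS
  have hA2 := c.AZ_two hz
  have hAS : AZ Z z ≤ S := by
    have h1 : IsPGroup 2 (AZ Z z ⊔ S : Subgroup G) := IsPGroup.to_sup_of_normal_left' hA2 S.isPGroup' hSM
    have h2 := S.is_maximal' h1 le_sup_right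
    rw [← h2]
    exact le_sup_left
  refine ⟨hAS, fun a ha g hg => ?_⟩
  obtain ⟨b, hbdef⟩ : ∃ b, b = g * a * g⁻¹ := ⟨_, rfl⟩
  rw [← hbdef] at hg ⊢
  have haa := c.AZ_sq hz a ha
  have hbb : b * b = 1 := by
    rw [hbdef]
    calc g * a * g⁻¹ * (g * a * g⁻¹) = g * (a * a) * g⁻¹ := by group
      _ = 1 := by rw [haa]; group
  have hbi : b⁻¹ = b := inv_eq_of_mul_eq_one_right hbb
  have hgb : g⁻¹ * b * g = a := by rw [hbdef]; group
  let R : Subgroup G := cj g⁻¹ ((S : Subgroup G) ⊓ centralizer {b})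
  have hR : ∀ r ∈ R, g * r * g⁻¹ ∈ (S : Subgroup G) ⊓ centralizer {b} := by
    intro r hr
    rw [mem_cj, inv_inv] at hr
    exact hr
  have hR2 : IsPGroup 2 R := (S.isPGroup'.to_le inf_le_left).map _
  have hRa : R ≤ centralizer {a} := by
    intro r hr
    rw [mem_centralizer_singleton_iff]
    have h1 := mem_centralizer_singleton_iff.1 (hR r hr).2
    rw [← hgb]
    calc r * (g⁻¹ * b * g) = g⁻¹ * ((g * r * g⁻¹) * b) * g := by group
      _ = g⁻¹ * (b * (g * r * g⁻¹)) * g := by rw [h1]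
      _ = _ := by group
  obtain ⟨d, hd, hdR⟩ := c.exists_conj_le hz
    (H := centralizer {a}) (fun x hx => mem_centralizer_singleton_iff.2 (c.AZ_comm hz x hx a ha)) hR2 hRa
  rw [mem_centralizer_singleton_iff] at hd
  obtain ⟨k, hk⟩ : ∃ k, k = g * d⁻¹ := ⟨_, rfl⟩
  have h5 : d⁻¹ * a * d = a := by rw [mul_assoc, ← hd, inv_mul_cancel_left]
  have hkb : b = k * a * k⁻¹ := by
    rw [hbdef, hk]
    calc g * a * g⁻¹ = g * (d⁻¹ * a * d) * g⁻¹ := by rw [h5]
      _ = _ := by group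
  have hbk : b ∈ AZ Z (k * z * k⁻¹) := by rw [c.AZ_conj, hkb]; exact conj_mem_cj ha
  have hkz := c.conj z hz k
  have hcent : ∀ s ∈ (S : Subgroup G), s * b = b * s → s ∈ normalizer (AZ Z (k * z * k⁻¹) : Set G) := by
    intro s hs hsb
    have h6 : g⁻¹ * s * g⁻¹⁻¹ ∈ R := conj_mem_cj (Subgroup.mem_inf.2 ⟨hs, mem_centralizer_singleton_iff.2 hsb⟩)
    have h7 := hdR (conj_mem_cj (g := d) h6)
    have h8 : d * (g⁻¹ * s * g⁻¹⁻¹) * d⁻¹ = k⁻¹ * s * k := by rw [hk]; group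
    rw [h8] at h7
    rw [mem_normalizer_iff_cj] at h7 ⊢
    rw [c.AZ_conj, ← cj_mul]
    have h9 : s * k = k * (k⁻¹ * s * k) := by group
    rw [h9, cj_mul, h7]
  have hbM := hSM hg
  by_cases hex : ∃ u ∈ Z, z * u = u * z ∧ u * b = b * u
  · obtain ⟨u, hu, hzu, hub⟩ := hex
    have huA : u ∈ AZ Z z := subset_closure ⟨hu, hzu⟩
    have h6 := hcent u (hAS huA) hub
    have h7 := c.eq_of_norm hkz hu h6
    rw [← c.AZ_eq hu hz hzu.symm, h7]
    exact hbk
  · push Not at hex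
    obtain ⟨u, hu, hzu, x, hx, hxz, hxe⟩ := cnt b hg hbb k hbk hcent hex
    have huA : u ∈ AZ Z z := subset_closure ⟨hu, hzu⟩
    have hu2 : b * u * b⁻¹ ∈ AZ Z z := (mem_normalizer_iff.1 hbM u).1 huA
    obtain ⟨e, he⟩ : ∃ e, e = u * (b * u * b⁻¹) := ⟨_, rfl⟩
    rw [← he] at hxe
    have heA : e ∈ AZ Z z := by rw [he]; exact mul_mem huA hu2
    have h6 : e ∈ AZ Z x := c.hb hz heA (one_mem _) hx (by group) (Or.inl (by rw [hxe, mul_inv_cancel_right]))
    rw [c.AZ_eq hx hkz hxz] at h6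
    have hui : u⁻¹ = u := inv_eq_of_mul_eq_one_right (c.sq u hu)
    have h7 : u * b * u⁻¹ = b * e := by
      rw [he, ← c.AZ_comm hz _ hu2 _ huA, hui]
      calc u * b * u = 1 * (u * b * u) := by group
        _ = (b * b) * (u * b * u) := by rw [hbb]
        _ = b * ((b * u * b) * u) := by group
        _ = b * ((b * u * b⁻¹) * u) := by rw [hbi]
    have h8 := c.hb hkz hbk h6 hu (c.AZ_comm hz _ huA _ heA) (Or.inr h7)
    rwa [c.AZ_eq hu hz hzu.symm] at h8

end CZ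

end Cfsg.Agent.Cit.Nil.RG
end

-- part: Cit/Nil/RG/Count
section
/-!
# Commuting non-commutative subgroups of a 2-group of permutations (helper488)

`count` : `k` pairwise commuting non-commutative subgroups `⟨p i, q i⟩` of a 2-group of permutations of a set of
`n` points: `2 k < n`.
-/

set_option autoImplicit false
set_option linter.style.haveILetI false
set_option linter.unusedSectionVars false

namespace Cfsg.Agent.Cit.Nil.RG

open Subgroup

section

variable {P : Type*} [Group P] {ι : Type*}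

/-- the subgroup generated by `p i, q i`, `i ∈ T` -/
def HT (p q : ι → P) (T : Finset ι) : Subgroup P := closure {x | ∃ i ∈ T, x = p i ∨ x = q i}

theorem pq_aux {p q x : P} (hx : x * p = p * x ∧ x * q = q * x) (hn : p * q ≠ q * p)
    (h : x = p ∨ x = q ∨ x = p * q ∨ x = p⁻¹ * q ∨ x = q⁻¹ * (p * q)) : False := by
  apply hn
  obtain ⟨h1, h2⟩ := hx
  rcases h with rfl | rfl | rfl | rfl | rfl
  · exact h2
  · exact h1.symm
  · have h3 : p * (q * p) = p * (p * q) := by rw [← mul_assoc]; exact h1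
    exact (mul_left_cancel h3).symm
  · have h3 : p⁻¹ * (q * p) = p⁻¹ * (p * q) := by
      calc p⁻¹ * (q * p) = p⁻¹ * q * p := by group
        _ = p * (p⁻¹ * q) := h1
        _ = _ := by group
    exact (mul_left_cancel h3).symm
  · have h3 : q⁻¹ * (p * q) * q = q⁻¹ * (q * p) * q := by
      calc q⁻¹ * (p * q) * q = q * (q⁻¹ * (p * q)) := h2
        _ = _ := by group
    exact mul_left_cancel (mul_right_cancel h3)

theorem card_HT [Finite P] [DecidableEq ι] (p q : ι → P) (T : Finset ι)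
    (hc : ∀ i ∈ T, ∀ j ∈ T, i ≠ j → p i * p j = p j * p i ∧ p i * q j = q j * p i ∧ q i * p j = p j * q i ∧
      q i * q j = q j * q i) (hn : ∀ i ∈ T, p i * q i ≠ q i * p i) :
    4 ^ T.card ≤ Nat.card (HT p q T) := by
  induction T using Finset.induction_on with
  | empty =>
    rw [Finset.card_empty, pow_zero]
    exact Nat.card_pos
  | insert i T hi ih =>
    have ih := ih (fun j hj k hk => hc j (Finset.mem_insert_of_mem hj) k (Finset.mem_insert_of_mem hk))
      (fun j hj => hn j (Finset.mem_insert_of_mem hj))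
    have hle : HT p q T ≤ HT p q (insert i T) := by
      refine closure_mono ?_
      rintro x ⟨j, hj, hx⟩
      exact ⟨j, Finset.mem_insert_of_mem hj, hx⟩
    have hpm : p i ∈ HT p q (insert i T) := subset_closure ⟨i, Finset.mem_insert_self i T, Or.inl rfl⟩
    have hqm : q i ∈ HT p q (insert i T) := subset_closure ⟨i, Finset.mem_insert_self i T, Or.inr rfl⟩
    have hcom : ∀ a ∈ HT p q T, a * p i = p i * a ∧ a * q i = q i * a := by
      intro a ha
      have h1 : HT p q T ≤ centralizer {p i} ⊓ centralizer {q i} := by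
        rw [HT, closure_le]
        rintro x ⟨j, hj, hx⟩
        have hji : j ≠ i := fun h2 => hi (h2 ▸ hj)
        have h3 := hc j (Finset.mem_insert_of_mem hj) i (Finset.mem_insert_self i T) hji
        rw [SetLike.mem_coe, Subgroup.mem_inf, mem_centralizer_singleton_iff, mem_centralizer_singleton_iff]
        rcases hx with rfl | rfl
        · exact ⟨h3.1, h3.2.1⟩
        · exact ⟨h3.2.2.1, h3.2.2.2⟩
      have h2 := h1 ha
      rw [Subgroup.mem_inf, mem_centralizer_singleton_iff, mem_centralizer_singleton_iff] at h2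
      exact h2
    have hni := hn i (Finset.mem_insert_self i T)
    let w : Fin 4 → P := ![1, p i, q i, p i * q i]
    have hw : ∀ n, w n ∈ HT p q (insert i T) := by
      intro n
      fin_cases n
      · exact one_mem _
      · exact hpm
      · exact hqm
      · exact mul_mem hpm hqm
    have key : ∀ n n' : Fin 4, n < n' → ¬ ((w n)⁻¹ * w n' ∈ HT p q T) := by
      intro n n' hlt hm
      have h1 := hcom _ hm
      refine pq_aux h1 hni ?_
      fin_cases n <;> fin_cases n' <;> first | exact absurd hlt (by decide) | skip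
      · left; change (1 : P)⁻¹ * p i = p i; group
      · right; left; change (1 : P)⁻¹ * q i = q i; group
      · right; right; left; change (1 : P)⁻¹ * (p i * q i) = p i * q i; group
      · right; right; right; left; rfl
      · right; left; change (p i)⁻¹ * (p i * q i) = q i; group
      · right; right; right; right; rfl
    let f : Fin 4 × HT p q T → HT p q (insert i T) := fun y => ⟨w y.1 * y.2, mul_mem (hw y.1) (hle y.2.2)⟩
    have hf : Function.Injective f := by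
      rintro ⟨n, a⟩ ⟨n', a'⟩ hff
      have h1 : w n * a = w n' * a' := congrArg Subtype.val hff
      have h2 : n = n' := by
        by_contra hne
        rcases lt_or_gt_of_ne hne with h3 | h3
        · refine key n n' h3 ?_
          have h4 : (w n)⁻¹ * w n' = (a : P) * (a' : P)⁻¹ := by
            rw [inv_mul_eq_iff_eq_mul, ← mul_assoc, h1, mul_inv_cancel_right]
          rw [h4]
          exact mul_mem a.2 (inv_mem a'.2)
        · refine key n' n h3 ?_
          have h4 : (w n')⁻¹ * w n = (a' : P) * (a : P)⁻¹ := by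
            rw [inv_mul_eq_iff_eq_mul, ← mul_assoc, ← h1, mul_inv_cancel_right]
          rw [h4]
          exact mul_mem a'.2 (inv_mem a.2)
      subst h2
      have h3 : a = a' := Subtype.ext (mul_left_cancel h1)
      rw [h3]
    have h1 := Nat.card_le_card_of_injective f hf
    rw [Nat.card_prod, Nat.card_eq_fintype_card, Fintype.card_fin] at h1
    rw [Finset.card_insert_of_notMem hi, pow_succ, mul_comm]
    exact (Nat.mul_le_mul_left 4 ih).trans h1

end

/-- see the head of the file -/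
theorem count {X : Type*} [Finite X] [Nonempty X] {ι : Type*} [DecidableEq ι] (H : Subgroup (Equiv.Perm X))
    (hH : IsPGroup 2 H) (p q : ι → Equiv.Perm X) (T : Finset ι) (hp : ∀ i ∈ T, p i ∈ H) (hq : ∀ i ∈ T, q i ∈ H)
    (hc : ∀ i ∈ T, ∀ j ∈ T, i ≠ j → p i * p j = p j * p i ∧ p i * q j = q j * p i ∧ q i * p j = p j * q i ∧
      q i * q j = q j * q i) (hn : ∀ i ∈ T, p i * q i ≠ q i * p i) : 2 * T.card < Nat.card X := by
  haveI : Fact (Nat.Prime 2) := ⟨Nat.prime_two⟩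
  have h1 := card_HT p q T hc hn
  have h2 : HT p q T ≤ H := by
    rw [HT, closure_le]
    rintro x ⟨i, hi, rfl | rfl⟩
    · exact hp i hi
    · exact hq i hi
  have h3 : 4 ^ T.card ≤ Nat.card H := h1.trans (Nat.le_of_dvd Nat.card_pos (card_dvd_of_le h2))
  obtain ⟨j, hj⟩ := IsPGroup.iff_card.1 hH
  have h4 : 2 ^ j ∣ (Nat.card X).factorial := by
    rw [← hj, ← Nat.card_perm]
    exact card_subgroup_dvd_card H
  have h5 : j < Nat.card X := by
    have h6 := Nat.emultiplicity_two_factorial_lt (n := Nat.card X) Nat.card_pos.ne'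
    have h7 : (j : ℕ∞) ≤ emultiplicity 2 (Nat.card X).factorial := le_emultiplicity_of_pow_dvd h4
    exact_mod_cast lt_of_le_of_lt h7 h6
  have h6 : 2 * T.card ≤ j := by
    rw [hj] at h3
    have h7 : (4 : ℕ) ^ T.card = 2 ^ (2 * T.card) := by rw [pow_mul]; norm_num
    rw [h7] at h3
    exact (Nat.pow_le_pow_iff_right (by norm_num)).1 h3
  omega

/-- a fixed point free involution of a finite set has a transversal -/
theorem exists_transversal {α : Type*} [DecidableEq α] (D : Finset α) (σ : α → α)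
    (hi : ∀ a ∈ D, σ (σ a) = a) (hf : ∀ a ∈ D, σ a ≠ a) : ∃ T ⊆ D, (∀ a ∈ T, σ a ∉ T) ∧ D.card ≤ 2 * T.card := by
  -- a maximal free subset
  obtain ⟨T, hT, hmax⟩ := Finset.exists_max_image (D.powerset.filter fun T => ∀ a ∈ T, σ a ∉ T) Finset.card
    ⟨∅, by simp⟩
  rw [Finset.mem_filter, Finset.mem_powerset] at hT
  refine ⟨T, hT.1, hT.2, ?_⟩
  have h1 : D ⊆ T ∪ T.image σ := by
    intro a ha
    by_contra hcon
    rw [Finset.mem_union, not_or, Finset.mem_image] at hcon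
    obtain ⟨h2, h3⟩ := hcon
    push Not at h3
    have h4 := hmax (insert a T) (by
      rw [Finset.mem_filter, Finset.mem_powerset]
      refine ⟨Finset.insert_subset ha hT.1, fun b hb => ?_⟩
      rw [Finset.mem_insert] at hb ⊢
      rw [not_or]
      rcases hb with rfl | hb
      · exact ⟨hf b ha, fun h4 => h3 _ h4 (hi b ha)⟩
      · exact ⟨fun h4 => h3 b hb h4, hT.2 b hb⟩)
    rw [Finset.card_insert_of_notMem h2] at h4
    omega
  calc D.card ≤ (T ∪ T.image σ).card := Finset.card_le_card h1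
    _ ≤ T.card + (T.image σ).card := Finset.card_union_le _ _
    _ ≤ T.card + T.card := Nat.add_le_add_left Finset.card_image_le _
    _ = 2 * T.card := by ring

end Cfsg.Agent.Cit.Nil.RG
end

-- part: Cit/Nil/RG/Closed
section
/-!
# (6b), no type I pairs, NIL: `⟨Z ∩ C(z)⟩` is strongly closed (helper488)

* `NilC Om` : the C-partners of `z` lie in a normal 2-subgroup of `C(z)`;
* `WR.cz` : (commuting = C, two members over each involution, NIL) commuting is transitive on `ZZ Om`;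
* `WR.closed` : `AZ (ZZ Om) z` is strongly closed in the Sylow 2-subgroups containing `z`.
-/

set_option autoImplicit false
set_option linter.style.haveILetI false
set_option linter.unusedSectionVars false

namespace Cfsg.Agent.Cit.Nil.RG

open Subgroup Cfsg Cit QuaternionGroup
open Cfsg.Agent.Cit.Nil.ROne Cfsg.Agent.Cit.Nil.RFour

variable {G : Type*} [Group G]

/-- the C-partners of `z` lie in `O₂(C(z))` -/
def NilC (Om : Set (Subgroup G)) : Prop := ∀ z ∈ ZZ Om, ∀ u ∈ ZZ Om, CP Om z u →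
  ∃ N : Subgroup G, centralizer {z} ≤ normalizer (N : Set G) ∧ IsPGroup 2 N ∧ u ∈ N

/-- the action by conjugation on an invariant set -/
def actX (M : Subgroup G) (X : Set G) (hX : ∀ g ∈ M, ∀ x ∈ X, g * x * g⁻¹ ∈ X) : M →* Equiv.Perm X where
  toFun g :=
    { toFun := fun x => ⟨g * x * (g : G)⁻¹, hX g g.2 x x.2⟩
      invFun := fun x => ⟨(g : G)⁻¹ * x * g, by
        have h1 := hX (g : G)⁻¹ (inv_mem g.2) x x.2
        rwa [inv_inv] at h1⟩
      left_inv := fun x => Subtype.ext (by change (g : G)⁻¹ * (g * x * (g : G)⁻¹) * g = x; group)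
      right_inv := fun x => Subtype.ext (by change (g : G) * ((g : G)⁻¹ * x * g) * (g : G)⁻¹ = x; group) }
  map_one' := Equiv.ext fun x => Subtype.ext (by change (1 : G) * x * (1 : G)⁻¹ = x; group)
  map_mul' g h := Equiv.ext fun x => Subtype.ext (by
    change ((g : G) * h) * x * ((g : G) * h)⁻¹ = g * (h * x * (h : G)⁻¹) * (g : G)⁻¹
    group)

/-- the central product of pairwise commuting 2-groups -/
theorem SS_two [Finite G] : ∀ (n : ℕ) (𝒦 : Set (Subgroup G)), 𝒦.ncard = n → (∀ K ∈ 𝒦, IsPGroup 2 K) →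
    (∀ K ∈ 𝒦, ∀ L ∈ 𝒦, K ≠ L → ∀ a ∈ K, ∀ b ∈ L, a * b = b * a) → IsPGroup 2 (SS 𝒦) := by
  intro n
  induction n with
  | zero =>
    intro 𝒦 hn _ _
    rw [Set.ncard_eq_zero] at hn
    subst hn
    rw [SS_empty]
    exact IsPGroup.of_bot
  | succ n ih =>
    intro 𝒦 hn h2 hc
    obtain ⟨K, hK⟩ : 𝒦.Nonempty := by
      rw [Set.nonempty_iff_ne_empty]; rintro rfl; rw [Set.ncard_empty] at hn; omega
    have h3 : (𝒦 \ {K}).ncard = n := by
      have h1 := Set.ncard_sdiff_singleton_add_one hK (Set.toFinite 𝒦)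
      omega
    have h4 := ih (𝒦 \ {K}) h3 (fun L hL => h2 L hL.1) fun L hL M hM => hc L hL.1 M hM.1
    have h5 : K ≤ normalizer (SS (𝒦 \ {K}) : Set G) := by
      intro k hk
      rw [mem_normalizer_iff]
      have h6 : ∀ g ∈ SS (𝒦 \ {K}), k * g = g * k := fun g hg =>
        SS_comm (fun L hL l hl => hc K hK L hL.1 (fun h7 => hL.2 h7.symm) k hk l hl) hg
      intro g
      constructor
      · intro hg
        rw [h6 g hg, mul_inv_cancel_right]; exact hg
      · intro hg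
        have h7 := h6 _ hg
        have h8 : g = k * g * k⁻¹ := by
          have h9 : k * (k * g * k⁻¹) = k * g := by rw [h7]; group
          exact (mul_left_cancel h9).symm
        rw [h8]; exact hg
    have h6 : IsPGroup 2 (K ⊔ SS (𝒦 \ {K}) : Subgroup G) := (h2 K hK).to_sup_of_normal_right' h4 h5
    refine h6.to_le (SS_le fun L hL => ?_)
    by_cases hLK : L = K
    · rw [hLK]; exact le_sup_left
    · exact (le_SS (𝒦 := 𝒦 \ {K}) ⟨hL, hLK⟩).trans le_sup_right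

namespace WR

variable {Om : Set (Subgroup G)} {K L M : Subgroup G} {z x y g g' u v w a a' b k l r s t i p q c : G}

variable [Finite G] (h : WR Om) (hC : AllC Om) (h2 : R2 Om)

include h hC h2

/-- **commuting is transitive** -/
theorem cz (hN : NilC Om) : CZ (ZZ Om) where
  sq z hz := h.zz_sq hz
  ne z hz := h.zz_ne hz
  conj z hz g := h.zz_cj hz g
  f1 x hx u hu hc := h.f1 hC h2 hx hu hc
  tr z hz w hw t ht hzw hzt := by
    by_cases hw1 : z = w
    · rw [← hw1]; exact hzt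
    by_cases ht1 : z = t
    · rw [← ht1]; exact hzw.symm
    have c1 : CP Om z w := hC w hw z hz hw1 hzw
    have c2 : CP Om z t := hC t ht z hz ht1 hzt
    obtain ⟨N, hN1, hN2, hN3⟩ := hN z hz w hw c1
    obtain ⟨K, hK⟩ := id ht
    refine h.f1 hC h2 hw ht ?_
    by_cases h5 : w * t * w⁻¹ = t
    · rw [h5]
    have hKC : K ≤ centralizer {z} := fun k hk => by
      rw [mem_centralizer_singleton_iff]
      exact (h.CP_RR c2 (h.RR_mem hz) (le_RR hK hk)).symm
    have h3 : IsPGroup 2 (K ⊔ N : Subgroup G) := (h.two hK.1).to_sup_of_normal_right' hN2 (hKC.trans hN1)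
    have h4 : cj w K ≤ K ⊔ N := by
      rintro _ ⟨k, hk, rfl⟩
      change w * k * w⁻¹ ∈ K ⊔ N
      have hw' : w ∈ K ⊔ N := (le_sup_right : N ≤ K ⊔ N) hN3
      exact mul_mem (mul_mem hw' ((le_sup_left : K ≤ K ⊔ N) hk)) (inv_mem hw')
    have h6 := h.Ov_cj hK w
    have h7 : K ≠ cj w K := by
      intro h7
      apply h5
      rw [← h6.2, ← h7, hK.2]
    exact h.pg K hK.1 _ h6.1 _ h3 le_sup_left h4 h7 t (h.Ov_mem hK) _ (h.Ov_mem h6)

/-- the members over the elements commuting with `z` lie in the Sylow subgroups containing `z` -/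
theorem RR_le (hN : NilC Om) (S : Sylow 2 G) (hz : z ∈ ZZ Om) (hzS : z ∈ (S : Subgroup G))
    (hzu : z * u = u * z) : RR Om u ≤ S := by
  have c := h.cz hC h2 hN
  let 𝒦 : Set (Subgroup G) := {K | K ∈ Om ∧ z * zz K = zz K * z}
  have h3 : IsPGroup 2 (SS 𝒦) := by
    refine SS_two _ 𝒦 rfl (fun K hK => h.two hK.1) fun K hK L hL hne a ha b hb => ?_
    by_cases h5 : zz K = zz L
    · exact h.comm K hK.1 L hL.1 h5 hne a ha b hb
    · have h6 := c.tr z hz (zz K) ⟨K, hK.1, rfl⟩ (zz L) ⟨L, hL.1, rfl⟩ hK.2 hL.2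
      exact (hC (zz L) ⟨L, hL.1, rfl⟩ (zz K) ⟨K, hK.1, rfl⟩ h5 h6).2 K ⟨hK.1, rfl⟩ L ⟨hL.1, rfl⟩ a ha b hb
  have hM := c.pg_le hz S.isPGroup' hzS
  have h4 : (S : Subgroup G) ≤ normalizer (SS 𝒦 : Set G) := by
    have key : ∀ s ∈ (S : Subgroup G), ∀ g ∈ SS 𝒦, s * g * s⁻¹ ∈ SS 𝒦 := by
      intro s hs g hg
      refine SS_cj_le (𝒦 := 𝒦) (fun K hK => ⟨h.conj K hK.1 s, ?_⟩) hg
      rw [h.zcj hK.1]
      have h6 : zz K ∈ AZ (ZZ Om) z := subset_closure ⟨⟨K, hK.1, rfl⟩, hK.2⟩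
      have h7 := (mem_normalizer_iff.1 (hM hs) _).1 h6
      exact c.AZ_comm hz _ (ComZ.self_mem hz) _ h7
    intro s hs
    rw [mem_normalizer_iff]
    intro g
    refine ⟨key s hs g, fun hg => ?_⟩
    have h6 := key s⁻¹ (inv_mem hs) _ hg
    have h7 : s⁻¹ * (s * g * s⁻¹) * s⁻¹⁻¹ = g := by group
    rwa [h7] at h6
  have h5 : IsPGroup 2 ((S : Subgroup G) ⊔ SS 𝒦 : Subgroup G) :=
    (S.isPGroup').to_sup_of_normal_right' h3 h4
  have h6 := S.is_maximal' h5 le_sup_left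
  refine SS_le fun K hK => ?_
  have h7 : K ≤ SS 𝒦 := le_SS (𝒦 := 𝒦) ⟨hK.1, by rw [hK.2]; exact hzu⟩
  rw [← h6]
  exact h7.trans le_sup_right

omit h2 in
/-- diagonal elements: commuting -/
theorem diag_comm (_hb : b * b = 1) (hu : u ∈ ZZ Om) (hv : v ∈ ZZ Om)
    (huu : ∀ p ∈ ({u, b * u * b⁻¹} : Set G), ∀ q ∈ ({v, b * v * b⁻¹} : Set G), p ≠ q ∧ p * q = q * p)
    (hk : k ∈ RR Om u) (hl : l ∈ RR Om v) :
    (k * (b * k * b⁻¹)) * (l * (b * l * b⁻¹)) = (l * (b * l * b⁻¹)) * (k * (b * k * b⁻¹)) := by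
  have hbk := h.RR_cj hk b
  have hbl := h.RR_cj hl b
  have hbu := h.zz_cj hu b
  have hbv := h.zz_cj hv b
  have c1 := hC v hv u hu (huu u (Or.inl rfl) v (Or.inl rfl)).1 (huu u (Or.inl rfl) v (Or.inl rfl)).2
  have c2 := hC _ hbv u hu (huu u (Or.inl rfl) _ (Or.inr rfl)).1 (huu u (Or.inl rfl) _ (Or.inr rfl)).2
  have c3 := hC v hv _ hbu (huu _ (Or.inr rfl) v (Or.inl rfl)).1 (huu _ (Or.inr rfl) v (Or.inl rfl)).2
  have c4 := hC _ hbv _ hbu (huu _ (Or.inr rfl) _ (Or.inr rfl)).1 (huu _ (Or.inr rfl) _ (Or.inr rfl)).2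
  have d1 : Commute k l := h.CP_RR c1 hk hl
  have d2 : Commute k (b * l * b⁻¹) := h.CP_RR c2 hk hbl
  have d3 : Commute (b * k * b⁻¹) l := h.CP_RR c3 hbk hl
  have d4 : Commute (b * k * b⁻¹) (b * l * b⁻¹) := h.CP_RR c4 hbk hbl
  exact ((d1.mul_right d2).mul_left (d3.mul_right d4)).eq

/-- **strong closure** -/
theorem closed (hN : NilC Om) (S : Sylow 2 G) (hz : z ∈ ZZ Om) (hzS : z ∈ (S : Subgroup G)) :
    IsStronglyClosed (AZ (ZZ Om) z) (S : Subgroup G) := by
  classical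
  have c := h.cz hC h2 hN
  have hSM := c.pg_le hz S.isPGroup' hzS
  refine c.closed_of S hz hzS fun b hb hbb k _ hcent hmv => ?_
  by_contra hcon
  push Not at hcon
  obtain ⟨z', hz'⟩ : ∃ z', z' = k * z * k⁻¹ := ⟨_, rfl⟩
  rw [← hz'] at hcent hcon
  have hz'Z : z' ∈ ZZ Om := by rw [hz']; exact h.zz_cj hz k
  have hbi : b⁻¹ = b := inv_eq_of_mul_eq_one_right hbb
  -- the points
  let Δ : Set G := {u | u ∈ ZZ Om ∧ z * u = u * z}
  let X : Set G := {x | x ∈ ZZ Om ∧ x * z' = z' * x}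
  have hΔ : ∀ u ∈ Δ, b * u * b⁻¹ ∈ Δ := by
    rintro u ⟨hu, hzu⟩
    refine ⟨h.zz_cj hu b, ?_⟩
    have h6 : u ∈ AZ (ZZ Om) z := subset_closure ⟨hu, hzu⟩
    have h7 := (mem_normalizer_iff.1 (hSM hb) _).1 h6
    exact c.AZ_comm hz _ (ComZ.self_mem hz) _ h7
  have hΔc : ∀ u ∈ Δ, ∀ v ∈ Δ, u * v = v * u := fun u hu v hv => c.tr z hz u hu.1 v hv.1 hu.2 hv.2
  have hΔb : ∀ u ∈ Δ, u ≠ b * u * b⁻¹ := by
    intro u hu h6
    refine hmv u hu.1 hu.2 ?_
    calc u * b = (b * u * b⁻¹) * b := by rw [← h6]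
      _ = b * u := by group
  obtain ⟨T, hT1, hT2, hT3⟩ := exists_transversal (Set.toFinite Δ).toFinset (fun u => b * u * b⁻¹)
    (by
      intro u _
      change b * (b * u * b⁻¹) * b⁻¹ = u
      calc b * (b * u * b⁻¹) * b⁻¹ = (b * b) * u * (b * b)⁻¹ := by group
        _ = u := by rw [hbb]; group)
    (by
      intro u hu
      rw [Set.Finite.mem_toFinset] at hu
      exact (hΔb u hu).symm)
  have hTΔ : ∀ u ∈ T, u ∈ Δ := fun u hu => (Set.Finite.mem_toFinset _).1 (hT1 hu)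
  -- `|X| = |Δ|`
  have hcard : Nat.card X = (Set.toFinite Δ).toFinset.card := by
    have h6 : X = (fun u => k * u * k⁻¹) '' Δ := by
      ext x
      constructor
      · rintro ⟨hx, hxz⟩
        refine ⟨k⁻¹ * x * k, ⟨?_, ?_⟩, by change k * (k⁻¹ * x * k) * k⁻¹ = x; group⟩
        · have := h.zz_cj hx k⁻¹
          rwa [inv_inv] at this
        · have h7 : z = k⁻¹ * z' * k := by rw [hz']; group
          rw [h7]
          calc k⁻¹ * z' * k * (k⁻¹ * x * k) = k⁻¹ * (z' * x) * k := by group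
            _ = k⁻¹ * (x * z') * k := by rw [hxz]
            _ = _ := by group
      · rintro ⟨u, ⟨hu, hzu⟩, rfl⟩
        refine ⟨h.zz_cj hu k, ?_⟩
        rw [hz']
        calc k * u * k⁻¹ * (k * z * k⁻¹) = k * (u * z) * k⁻¹ := by group
          _ = k * (z * u) * k⁻¹ := by rw [hzu]
          _ = _ := by group
    rw [← Set.ncard_eq_toFinset_card Δ (Set.toFinite Δ)]
    change X.ncard = _
    rw [h6]
    exact Set.ncard_image_of_injective _ fun u v huv => mul_left_cancel (mul_right_cancel huv)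
  -- the action
  obtain ⟨M', hM'⟩ : ∃ M', M' = normalizer (AZ (ZZ Om) z' : Set G) := ⟨_, rfl⟩
  rw [← hM'] at hcent
  have hX : ∀ g ∈ M', ∀ x ∈ X, g * x * g⁻¹ ∈ X := by
    rintro g hg x ⟨hx, hxz⟩
    refine ⟨h.zz_cj hx g, ?_⟩
    have h6 : x ∈ AZ (ZZ Om) z' := subset_closure ⟨hx, hxz.symm⟩
    rw [hM'] at hg
    have h7 := (mem_normalizer_iff.1 hg _).1 h6
    exact c.AZ_comm hz'Z _ h7 _ (ComZ.self_mem hz'Z)
  let φ := actX M' X hX
  have hz'X : z' ∈ X := ⟨hz'Z, rfl⟩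
  haveI : Nonempty X := ⟨⟨z', hz'X⟩⟩
  let Γ : Subgroup G := (S : Subgroup G) ⊓ centralizer {b}
  have hΓ : IsPGroup 2 Γ := S.isPGroup'.to_le inf_le_left
  let H : Subgroup (Equiv.Perm X) := (Γ.subgroupOf M').map φ
  have hH : IsPGroup 2 H := (hΓ.comap_subtype).map φ
  -- the elements
  have hex : ∀ u : G, ∃ k k' : G, u ∈ ZZ Om → (k ∈ RR Om u ∧ k' ∈ RR Om u ∧ k * k' = u * (k' * k)) := by
    intro u
    by_cases hu : u ∈ ZZ Om
    · obtain ⟨K, hK⟩ := id hu
      obtain ⟨k, hk, hkk⟩ := h.exists_four hK.1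
      obtain ⟨k', hk', hkk', hk1, hk2⟩ := h.exists_anti hK.1 hk hkk
      obtain ⟨h6, -⟩ := h.anti hK.1 hk hk' hkk hkk' hk1 hk2
      refine ⟨k, k', fun _ => ⟨le_RR hK hk, le_RR hK hk', ?_⟩⟩
      rw [h6, hK.2, ← mul_assoc, h.zz_sq hu, one_mul]
    · exact ⟨1, 1, fun h6 => absurd h6 hu⟩
  choose κ κ' hκ using hex
  let P : G → G := fun u => κ u * (b * κ u * b⁻¹)
  let Q : G → G := fun u => κ' u * (b * κ' u * b⁻¹)
  -- they lie in `Γ`
  have hmem : ∀ u ∈ Δ, ∀ a ∈ RR Om u, a * (b * a * b⁻¹) ∈ Γ := by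
    intro u hu a ha
    have h6 : a ∈ (S : Subgroup G) := h.RR_le hC h2 hN S hz hzS hu.2 ha
    refine Subgroup.mem_inf.2 ⟨mul_mem h6 (mul_mem (mul_mem hb h6) (inv_mem hb)), ?_⟩
    rw [mem_centralizer_singleton_iff]
    have hbu := hΔ u hu
    have c1 := hC _ hbu.1 u hu.1 (hΔb u hu) (hΔc u hu _ hbu)
    have h7 := h.CP_RR c1 ha (h.RR_cj ha b)
    calc a * (b * a * b⁻¹) * b = (b * a * b⁻¹) * a * b := by rw [h7]
      _ = b * (a * (b⁻¹ * a * b)) := by group
      _ = b * (a * (b * a * b⁻¹)) := by rw [hbi]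
  have hΓM : ∀ g ∈ Γ, g ∈ M' := fun g hg => hcent g hg.1 (mem_centralizer_singleton_iff.1 hg.2)
  have hPΓ : ∀ u ∈ T, P u ∈ Γ := fun u hu => hmem u (hTΔ u hu) _ (hκ u (hTΔ u hu).1).1
  have hQΓ : ∀ u ∈ T, Q u ∈ Γ := fun u hu => hmem u (hTΔ u hu) _ (hκ u (hTΔ u hu).1).2.1
  let ψ : G → Equiv.Perm X := fun g => if hg : g ∈ M' then φ ⟨g, hg⟩ else 1
  have hψ : ∀ g (hg : g ∈ M'), ψ g = φ ⟨g, hg⟩ := fun g hg => dif_pos hg
  have hψm : ∀ g g', g ∈ M' → g' ∈ M' → g * g' = g' * g → ψ g * ψ g' = ψ g' * ψ g := by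
    intro g g' hg hg' hgg
    rw [hψ g hg, hψ g' hg', ← map_mul, ← map_mul]
    exact congrArg φ (Subtype.ext hgg)
  have hψH : ∀ g ∈ Γ, ψ g ∈ H := fun g hg => by
    rw [hψ g (hΓM g hg)]
    exact ⟨⟨g, hΓM g hg⟩, mem_subgroupOf.2 hg, rfl⟩
  have key := count H hH (fun u => ψ (P u)) (fun u => ψ (Q u)) T (fun u hu => hψH _ (hPΓ u hu))
    (fun u hu => hψH _ (hQΓ u hu)) ?_ ?_
  · rw [hcard] at key
    omega
  · intro u hu v hv huv
    have hu' := hTΔ u hu
    have hv' := hTΔ v hv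
    have h6 : ∀ p ∈ ({u, b * u * b⁻¹} : Set G), ∀ q ∈ ({v, b * v * b⁻¹} : Set G), p ≠ q ∧ p * q = q * p := by
      rintro p (rfl | rfl) q (rfl | rfl)
      · exact ⟨huv, hΔc _ hu' _ hv'⟩
      · exact ⟨fun h7 => hT2 v hv (by change b * v * b⁻¹ ∈ T; rw [← h7]; exact hu), hΔc _ hu' _ (hΔ v hv')⟩
      · exact ⟨fun h7 => hT2 u hu (by change b * u * b⁻¹ ∈ T; rw [h7]; exact hv), hΔc _ (hΔ u hu') _ hv'⟩
      · exact ⟨fun h7 => huv (mul_left_cancel (mul_right_cancel h7)), hΔc _ (hΔ u hu') _ (hΔ v hv')⟩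
    have hPu := hΓM _ (hPΓ u hu)
    have hQu := hΓM _ (hQΓ u hu)
    have hPv := hΓM _ (hPΓ v hv)
    have hQv := hΓM _ (hQΓ v hv)
    have k1 := (hκ u hu'.1).1
    have k2 := (hκ u hu'.1).2.1
    have k3 := (hκ v hv'.1).1
    have k4 := (hκ v hv'.1).2.1
    exact ⟨hψm _ _ hPu hPv (h.diag_comm hC hbb hu'.1 hv'.1 h6 k1 k3),
      hψm _ _ hPu hQv (h.diag_comm hC hbb hu'.1 hv'.1 h6 k1 k4),
      hψm _ _ hQu hPv (h.diag_comm hC hbb hu'.1 hv'.1 h6 k2 k3),
      hψm _ _ hQu hQv (h.diag_comm hC hbb hu'.1 hv'.1 h6 k2 k4)⟩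
  · intro u hu heq
    have hu' := hTΔ u hu
    have hPu := hΓM _ (hPΓ u hu)
    have hQu := hΓM _ (hQΓ u hu)
    obtain ⟨k1, k2, k3⟩ := hκ u hu'.1
    have hbu := hΔ u hu'
    have c1 := hC _ hbu.1 u hu'.1 (hΔb u hu') (hΔc u hu' _ hbu)
    -- `P Q = e Q P`
    obtain ⟨e, he⟩ : ∃ e, e = u * (b * u * b⁻¹) := ⟨_, rfl⟩
    have h6 : P u * Q u = e * (Q u * P u) := by
      change κ u * (b * κ u * b⁻¹) * (κ' u * (b * κ' u * b⁻¹)) = e * (κ' u * (b * κ' u * b⁻¹) * (κ u * (b * κ u * b⁻¹)))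
      obtain ⟨α, hα⟩ : ∃ α, α = κ u := ⟨_, rfl⟩
      obtain ⟨β, hβ⟩ : ∃ β, β = κ' u := ⟨_, rfl⟩
      rw [← hα, ← hβ] at k3
      rw [← hα] at k1
      rw [← hβ] at k2
      rw [← hα, ← hβ]
      have m1 : (b * α * b⁻¹) * β = β * (b * α * b⁻¹) := (h.CP_RR c1 k2 (h.RR_cj k1 b)).symm
      have m2 : (b * β * b⁻¹) * α = α * (b * β * b⁻¹) := (h.CP_RR c1 k1 (h.RR_cj k2 b)).symm
      have m3 : (b * u * b⁻¹) * (β * α) = (β * α) * (b * u * b⁻¹) :=
        (h.CP_RR c1 (mul_mem k2 k1) (h.RR_mem hbu.1)).symm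
      have m4 : (b * α * b⁻¹) * (b * β * b⁻¹) = (b * u * b⁻¹) * ((b * β * b⁻¹) * (b * α * b⁻¹)) := by
        calc (b * α * b⁻¹) * (b * β * b⁻¹) = b * (α * β) * b⁻¹ := by group
          _ = b * (u * (β * α)) * b⁻¹ := by rw [k3]
          _ = _ := by group
      calc α * (b * α * b⁻¹) * (β * (b * β * b⁻¹)) = α * ((b * α * b⁻¹) * β) * (b * β * b⁻¹) := by group
        _ = (α * β) * ((b * α * b⁻¹) * (b * β * b⁻¹)) := by rw [m1]; group
        _ = (u * (β * α)) * ((b * u * b⁻¹) * ((b * β * b⁻¹) * (b * α * b⁻¹))) := by rw [k3, m4]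
        _ = u * ((β * α) * (b * u * b⁻¹)) * ((b * β * b⁻¹) * (b * α * b⁻¹)) := by group
        _ = u * ((b * u * b⁻¹) * (β * α)) * ((b * β * b⁻¹) * (b * α * b⁻¹)) := by rw [m3]
        _ = (u * (b * u * b⁻¹)) * (β * (α * (b * β * b⁻¹)) * (b * α * b⁻¹)) := by group
        _ = (u * (b * u * b⁻¹)) * (β * ((b * β * b⁻¹) * α) * (b * α * b⁻¹)) := by rw [m2]
        _ = e * (β * (b * β * b⁻¹) * (α * (b * α * b⁻¹))) := by rw [he]; group
    have h7 : ψ (P u) * ψ (Q u) = ψ (Q u) * ψ (P u) := heq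
    rw [hψ _ hPu, hψ _ hQu, ← map_mul, ← map_mul] at h7
    have h8 := congrArg (fun σ : Equiv.Perm X => ((σ ⟨z', hz'X⟩ : X) : G)) h7
    have h9 : (P u * Q u) * z' * (P u * Q u)⁻¹ = (Q u * P u) * z' * (Q u * P u)⁻¹ := h8
    rw [h6] at h9
    -- `e` commutes with `y := (QP) z' (QP)⁻¹`, and with `QP`
    have m5 : e * (Q u * P u) = (Q u * P u) * e := by
      have n1 : ∀ a ∈ RR Om u, e * (a * (b * a * b⁻¹)) = (a * (b * a * b⁻¹)) * e := by
        intro a ha
        have n2 := h.RR_cen ha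
        have n3 := h.RR_cen (h.RR_cj ha b)
        have n4 := h.CP_RR c1 ha (h.RR_mem hbu.1)
        have n5 := h.CP_RR c1 (h.RR_mem hu'.1) (h.RR_cj ha b)
        have e1 : Commute u a := n2
        have e2 : Commute (b * u * b⁻¹) (b * a * b⁻¹) := n3
        have e3 : Commute (b * u * b⁻¹) a := n4.symm
        have e4 : Commute u (b * a * b⁻¹) := n5
        rw [he]
        exact ((e1.mul_right e4).mul_left (e3.mul_right e2)).eq
      have e1 : Commute e (Q u) := n1 _ k2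
      have e2 : Commute e (P u) := n1 _ k1
      exact (e1.mul_right e2).eq
    refine hcon u hu'.1 hu'.2 z' hz'Z rfl ?_
    rw [← he]
    have h10 : e * (Q u * P u) * z' * (e * (Q u * P u))⁻¹ = (Q u * P u) * (e * z' * e⁻¹) * (Q u * P u)⁻¹ := by
      rw [m5]; group
    rw [h10] at h9
    have h11 : e * z' * e⁻¹ = z' := mul_left_cancel (mul_right_cancel h9)
    rw [mul_inv_eq_iff_eq_mul] at h11
    exact h11.symm

end WR

end Cfsg.Agent.Cit.Nil.RG
end

private theorem dce_fcdce9859c63 : _root_.True := by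
  try have : _root_.True := by simp only [_root_.Cfsg.Agent.Cit.Nil.RG.HT.eq_1]
  exact _root_.True.intro
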